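import Cfsg.Agent.H436.TwoRu
import Cfsg.Agent.H690.Spor.Ru
import Mathlib
import Cfsg.Agent.S0145
import Cfsg.Agent.S0907
import Cfsg.Agent.Characters.GaloisIrr
import Cfsg.Agent.H618.Sigma
import Cfsg.Agent.Blocks.ExistsModular
import Cfsg.Agent.H268.K4.Mod4
import Cfsg.Prelude.Def_Blocks
import Cfsg.Agent.CharDeep.FrobKernel
import Cfsg.Agent.Characters.GaloisBasic
import Cfsg.Agent.S0165
import Cfsg.Agent.S0960
import Cfsg.Agent.H219.RelIdx
import Cfsg.Agent.H597.Taketa
import Cfsg.Agent.Lib.ListFast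
import Cfsg.Agent.FastGrp
import Cfsg.Agent.Prune
set_option linter.all false
open scoped Cfsg.Agent.FastGrp

-- part: H536/K4/RuX
section
/-!
# Elements of order 16, 13 and 29 in the Rudvalis group (helper536, row Ru of S4947)

In the model `RuOrder.H`, with the certificate engine of `CpAutRuFive.Eng`: `x = wprod ml wx` has order 16,
`|C(x)| = 16`, `x` is conjugate to `x ^ 5` and not conjugate to its inverse; an element of order 13 is conjugate
to its square.
-/

set_option autoImplicit false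
set_option maxRecDepth 100000
set_option exponentiation.threshold 5000

namespace Cfsg.Agent.H536.K4.RuX

open Subgroup Cfsg Cfsg.Agent.SporadicB Cfsg.Agent.SporadicB.RuData Cfsg.Agent.RuD.Letters
open Cfsg.Agent.SporRec.TCUpperCert Cfsg.Agent.Lib.BitNet Cfsg.Agent.SporRec.R3.Kernel
open Cfsg.Agent.KFacts.Ru Cfsg.Agent.KFacts.Ru.CentEng Cfsg.Agent.CpAutRuFive.Eng
open Cfsg.Agent.Lib.BitNetSimple (force force_eq tb tb_eq)

/-- an element of order 16 -/
def wx : List ℕ := [0, 3, 1, 5]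

/-- its inverse -/
def wi : List ℕ := [5, 6, 7, 0]

/-- a word conjugating `x` to `x ^ 5` -/
def wg : List ℕ := [8, 7, 5, 3, 5, 0, 4, 7, 5, 7, 5, 8, 0, 5, 8, 3, 6, 7, 0, 5, 0, 4, 3, 1, 5, 3, 8, 0, 5, 7, 5, 3, 4]

/-- a word conjugating the element of order 13 to its square -/
def wh : List ℕ := [2, 6, 4, 7, 2, 1, 2, 1]

/-- repeated word -/
def rp (n : ℕ) (w : List ℕ) : List ℕ := Nat.rec [] (fun _ ih => w ++ ih) n

/-- points adjacent to their image under `x ^ 1` -/
def M1 : ℕ := 0x591d3ac68a8c3c16b4ad6a4d9d5941a06d18409c22c35b186c08ea00082a71ecc9089321366c9a1182b4d0411e610f01065aa585b7cd72c26426001049301357648241810385d9c5ba70e3602388ea21c2e0047658413ba1b800e30e77325014a4078ad8bd4c173135a039022889023c20a54a1e94004717399070975b033e43530dfd051002204a2494aa9c1e124457b4111d066ce049ca13057a8b8328f9000c4a368447a54ff40d61884178dd204506002a42875aa3d59aaa357413ba0088166c164383c6a12384379e9de254928ba02afba490e04066436237fca91701022c2a90b62176812b337497834b8324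27b6d5f21865626cb3104628422d500f3744c19bd6b34d220814bc5162a0d7b81d9bbad0d405d6528297b229b12438c70978d4255791229f469dac50089129e160d7b85edb7c44055072774996027ac7c17a2b4d50718f9c205319026879d14787e7b804534e80816c5a9e384054a3a52290002c66bda757e538d361ac876c221e086c2f326a1e6d91b566d0ce894878c5189eaa19cfa31e8a0194101773a264325ca24768180215833c5441eb68b1c10fd55c04364224d1ea1a8e060852810f633006298cd8023ff8e4e3055e68008b2620292156e00083798d76091a08418b1af806dee0e4d4498aeae038c300078ed8baea7d29391e4c647b0951d408e90204753041191df87471ab00429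

/-- points adjacent to their image under `x ^ 2` -/
def M2 : ℕ := 0x95cedb1a041c4011dbd140123cf6922c189e58e1121038b438656380f3c2bf1b018920698b9e45c6d9018fb2211cd8390005605297a3a0ca7404203493203348ed3a08a905c34f143c91a9240af32cda894b8669f4a0158279c59060e94004058a321da266ba3583c1612068993e80004532abd0492970194286e9086204c268f0c2274b2079c014a690e292486274269131081f0480036670e1804210c489a16714a39a2994c043e7484166a242b8a16018e0e444885c801c945db1e1929e47a96a49f04c0ab8dc9d5323606a80cb0f594132eb9414edde001f23018d60642a25ab34f50d80161827ec1017a6d04aa3e140080c2159918241964184caedd0599e0a02e09cca430669e286854b828d6954019143285810199804e4d026a18200a31802419402206a8033330404cc01257966894ecba7012222d9a84192bd3170aa12b3822388be638f383010831310b813a5fc6377a0c709c0a40013802058124a3abc104cb00418bb85193b1410240946845af2d366e9c4087b081f8a849e424a8050ddad10526801029183083932706919430882d84a12014d305f0a86b10901d0574027a1062aa1c4b492f4001354410bbbf6001b021e903be1558741c1d7e4082e3c9a186a0908bf89e4489400c05530277c804e9a246446c590816623a5868506538461482582439f2e070e300b668e6a26020ea33019001c4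

/-- points adjacent to their image under `x ^ 3` -/
def M3 : ℕ := 0xf362aaf40f31c63be4282a9eb8226af3920fd1680948bb0d72532d1852c82ac4cc8332a2a5944ad619994a701f059d2c28430492176642030c4324804900481e2969d02040c037309660c28329d7eb9ac26383b421b80ccbc00f512e9612c231781340c2f95719b24af40802e1e551b8609801cc210cab10106c12c91a23790931eeda354462e01292850885bea22111e4515541e0df8b3058a2f49657246086ad589538cad43f2384b85045350c10e0400c25d2c210336593176b86a82852c98f429386eb7c85bc206486f120b04f23b9016b1340ce91690070602fa04365188905210689b292930624861111270495548462512400fa69bf1c2e065ca5246f3a12bd527b814cfe213677004011de1646146798408843880d77ac3b14b05d3bf38b476e012cba3054e7509914ea4bf42e98e1cdbaa92040d84cea13d1e7c224107317a04663590700257e42bb86499ba494fc9ad171f0ca5b68181185b3ff02c824932f31671acdc2d8903527e626d73a30e0c4585884317c859cc719047f0b8a0daf4c491312c2d542c050a2b3b14a450ba0c9181308c12f11292c2c11445300b863c5610316d00754a40aeaa5058b7200132e408c38e605ec578f5d8909b005230d49a36145709485d1be6c34c8fa1ff4f9c82cba09b04263c8b1d561a9b90b25518043c640403547c3894842104e71ad5178af6f5dc26041c41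

/-- points adjacent to their image under `x ^ 4` -/
def M4 : ℕ := 0x8a3410c5dc9fff0a8c2df67ff24276e1e468440a2a4ccd414c7809550c7df02c7cd108421184a26f18dbd68df0a5afc8fed96dc518901e022407c905218b58e51007e170902514fd6334d58ad5d4e132b0c108d61871dbb48602b725e5b8f37afcaf0154dd350f115d1a0995fe447aea280d41111654acc0a55c1e2f11906f1f3cee86110de208a8bec8b771b58a2910e2cd5d61bc19a8a10c32818a7c1dd0c6b908a46f40e91991d49094794c514b63cf8125a8c45f00aa8ab3a11a1b4111a1988f970752530122a271408527299732b9b6d8b07aad90609e42816c1ab34bf7688e89d6eaade9c9a774d7ab0427b3f9d0f38d8a728ce2dd21448a23b163035441dbdc0522158c833697313008fff20a71cea8fc028804fc75152b1fb4ca9f6c5bf7d5bd88abb1bb04601c9230f756cc46a83c8f42680ec0352260387f330ed705254abff5fc8918c2bde56f73ffabb78ec6308a41833bfe13a73c6d7399b944a12561096141762d1403e474286f50d2116391635680ac39a1fa758a3025fb5327cba42d7211810dc204ca9ec372e22c1ee4755be501bca5b7793b708d90c014a0639a43da4820391815074398eb8c2c2bb4200db74f4cd8cb2d5a9c6893378e3b6b499da5e610f63156fe03eb77cb3c0be4633b3985051b07e119aa04009e68dac384883057a6ccf9ef71d3f4b8451871855279d64c51f4c082a71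

/-- points adjacent to their image under `x ^ 5` -/
def M5 : ℕ := 0x69e6061132eb9e6b8445ee6451787450f4d80791d33c4a5c4e661b16c9a632670d300a4c922e3bdd271e8c81e27b2950d500ccd1205ec24374463996a28008928c8b34d910222c27bc000d48a2c36720e059420f03427c92b814842f793aec2c9c97957707ad8307891b67615aa4223e44340605034aa54f5496de3068123b7bf00210970c41bd80681dae74f1fe064edc81506c805c406ac8bb4043bd79052393681457b2885a025c73b7dde2cedb4905101bb6a4aca12c5083b950b0fd42ab148f020c83bc583506538c46e702988a2835a060183278ccd506c3d8f2208400108e77e604cd030d067490799548e209402d4da4204208b3a058e8e01d98030c76948917a466ad80819d1845c9b7908ed2b6b2429a544098b8962f961c9c820841503add330a2b04307850188c00a44c5514b20900d40c009f21819808308b95dc205a4896a6cd8e8e05960c4e6ad4c82eaa2802c084178120b7d30dac13a662344969ecf888bc801651c22f80a251840b8d3b48a6fcf09c3fdea44ba268c9a1f5b11d5294e28c8a00a052a54b74faad1360b33d813071ae13ac52d05ae8a10f27c6c8120764a4e84454a41d30a224cc313216e4e1119b206be0065eb0a8493e61c800731c6ab00ab41e72e98f805400f2028376c6640ae104e4f8c8b15210d1626ccc703d836f2cd3309343a4d0ac107b2049534009cb64720274f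

/-- instructions -/
def ins : List St := [
  .and 1 3, .diff 0 1, .diff 0 4, .diff 0 7, .base 0 69, .and 13 7, .and 0 4, .and 0 4, .and 0 4, .pt 0 1748,
  .and 17 11, .and 0 10, .and 0 12, .and 0 5, .diff 0 26, .pt 0 1475, .and 10 6, .diff 0 31, .pt 0 693]

theorem adj1 : chkAdj (rp 1 wx) M1 = true := by decide +kernel
theorem adj2 : chkAdj (rp 2 wx) M2 = true := by decide +kernel
theorem adj3 : chkAdj (rp 3 wx) M3 = true := by decide +kernel
theorem adj4 : chkAdj (rp 4 wx) M4 = true := by decide +kernel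
theorem adj5 : chkAdj (rp 5 wx) M5 = true := by decide +kernel

theorem runX : run wx ins [M1, M2, M3, M4, M5] = some 16 := by decide +kernel

/-! ### the centralizer -/

theorem wprod_rp (n : ℕ) (w : List ℕ) : (wprod ml (rp n w) : RuOrder.H) = wprod ml w ^ n := by
  induction n with
  | zero => rw [pow_zero]; rfl
  | succ n ih =>
    have e : rp (n + 1) w = w ++ rp n w := rfl
    rw [e, wprod_append, ih, pow_succ']

/-- the element of order 16 -/
noncomputable def X : RuOrder.H := wprod ml wx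

theorem comm_rp {x : RuOrder.H} {w : List ℕ} (h : x * wprod ml w = wprod ml w * x) (n : ℕ) :
    x * wprod ml (rp n w) = wprod ml (rp n w) * x := by
  rw [wprod_rp]
  exact (Commute.pow_right (show Commute x (wprod ml w) from h) n).eq

theorem card_Cen : Nat.card (Cen [wx]) ≤ 16 := by
  refine card_le_of_run (w := wx) (List.mem_singleton.2 rfl) ?_ runX
  intro m hm
  simp only [List.mem_cons, List.not_mem_nil, or_false] at hm
  have key : ∀ x ∈ Cen [wx], x * wprod ml wx = wprod ml wx * x := fun x hx => hx _ (List.mem_singleton.2 rfl)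
  rcases hm with rfl | rfl | rfl | rfl | rfl
  · exact ⟨_, fun x hx => comm_rp (key x hx) 1, adj1⟩
  · exact ⟨_, fun x hx => comm_rp (key x hx) 2, adj2⟩
  · exact ⟨_, fun x hx => comm_rp (key x hx) 3, adj3⟩
  · exact ⟨_, fun x hx => comm_rp (key x hx) 4, adj4⟩
  · exact ⟨_, fun x hx => comm_rp (key x hx) 5, adj5⟩

theorem k16 : chkEq (rp 16 wx) [] = true := by decide +kernel
theorem k8 : Nat.beq (evalK (rp 8 wx) 0) 0 = false := by decide +kernel
theorem k5 : chkEq (wg ++ wx) (rp 5 wx ++ wg) = true := by decide +kernel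
theorem kinv : chkEq (wi ++ wx) [] = true := by decide +kernel
theorem k2 : chkEq (wh ++ H436.RuCent.wB) (rp 2 H436.RuCent.wB ++ wh) = true := by decide +kernel
theorem kfix : Nat.beq (popc 12 (fixMask wx)) 2 = true := by decide +kernel

theorem X_pow : X ^ 16 = 1 := by
  have h := eq_of_chkEq k16
  rwa [wprod_rp, wprod_nil] at h

theorem X_pow8 : X ^ 8 ≠ 1 := by
  intro h
  have h1 : (wprod ml (rp 8 wx) : RuOrder.H) = 1 := by rw [wprod_rp]; exact h
  have h2 := evalK_eq (rp 8 wx) ⟨0, by norm_num⟩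
  rw [h1] at h2
  have h3 : evalK (rp 8 wx) 0 = 0 := h2.symm
  have h4 := k8
  rw [h3, Nat.beq_refl] at h4
  exact Bool.noConfusion h4

theorem orderOf_X : orderOf X = 16 := by
  have h1 : orderOf X ∣ 2 ^ 4 := orderOf_dvd_of_pow_eq_one X_pow
  obtain ⟨k, hk, h2⟩ := (Nat.dvd_prime_pow Nat.prime_two).1 h1
  have h3 : ¬ orderOf X ∣ 8 := fun h => X_pow8 (orderOf_dvd_iff_pow_eq_one.1 h)
  rw [h2] at h3 ⊢
  have h4 : ¬ k ≤ 3 := fun h => h3 (pow_dvd_pow 2 h)
  have h5 : k = 4 := by omega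
  rw [h5]
  norm_num

theorem card_cent : Nat.card (centralizer ({X} : Set RuOrder.H)) = 16 := by
  have := H436.TwoRu.finite_H
  apply le_antisymm
  · rw [X, H436.TwoRu.cen_eq]
    exact card_Cen
  · have h3 : X ∈ centralizer ({X} : Set RuOrder.H) := mem_centralizer_singleton_iff.2 rfl
    have h4 := Subgroup.orderOf_dvd_natCard _ h3
    rw [orderOf_X] at h4
    exact Nat.le_of_dvd Nat.card_pos h4

/-- `x` is conjugate to `x ^ 5` -/
theorem conj5 : IsConj X (X ^ 5) := by
  have h := eq_of_chkEq k5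
  rw [wprod_append, wprod_append, wprod_rp] at h
  rw [isConj_iff]
  refine ⟨wprod ml wg, ?_⟩
  rw [mul_inv_eq_iff_eq_mul]
  exact h

/-- an element of order 13 -/
noncomputable def Y : RuOrder.H := wprod ml H436.RuCent.wB

theorem conj2 : IsConj Y (Y ^ 2) := by
  have h := eq_of_chkEq k2
  rw [wprod_append, wprod_append, wprod_rp] at h
  rw [isConj_iff]
  refine ⟨wprod ml wh, ?_⟩
  rw [mul_inv_eq_iff_eq_mul]
  exact h

/-! ### `x` is not conjugate to its inverse -/

/-- difference of masks -/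
def dif (a b : ℕ) : ℕ := Nat.xor a (Nat.land a b)

/-- the sixteen points of the cell -/
def cellK : ℕ := dif (dif (dif (Nat.land M2 M4) M1) M3) M5

/-- the intersection of the rows of the images of `c` under the powers of `x⁻¹` -/
noncomputable def cap (c : ℕ) (l : List (ℕ × Bool)) : ℕ :=
  List.rec (motive := fun _ => ℕ) (Nat.sub (Nat.pow 2 4060) 1) (fun a _ ih => force ih fun m =>
    force (evalK (rp a.1 wi) c) fun v => force (row v) fun r =>
      force (Bool.rec (Nat.xor m (Nat.land m r)) (Nat.land m r) a.2) fun y => y) l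

def pat : List (ℕ × Bool) :=
  [(1, true), (2, true), (3, true), (4, true), (5, true), (8, true), (10, true), (15, false)]

/-- no point has the reversed pattern -/
noncomputable def chkN : Bool :=
  force cellK fun K => allB (fun c => Bool.rec true (Nat.beq (cap c pat) 0) (tb K c)) 4060

/-- the pattern of the point 8 -/
noncomputable def chkP : Bool :=
  force (row 8) fun r => allL (fun a : ℕ × Bool => force (evalK (rp a.1 wx) 69) fun v =>
      Bool.rec (Bool.rec true false a.2) a.2 (tb r v)) pat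

theorem chkN_eq : chkN = true := by decide +kernel
theorem chkP_eq : chkP = true := by decide +kernel
theorem chkQ_eq : tb cellK 69 = true := by decide +kernel

/-- the action on the points -/
noncomputable abbrev pt (g : RuOrder.H) (p : Fin 4060) : Fin 4060 := (g : Equiv.Perm (Fin 4060)) p

theorem pt_mul (g h : RuOrder.H) (p : Fin 4060) : pt (g * h) p = pt g (pt h p) := rfl

theorem symm' (u v : Fin 4060) : (row u).testBit (v : ℕ) = (row v).testBit (u : ℕ) :=
  symCheck_sound RuOrder.sym (lt_trans u.2 (by norm_num)) (lt_trans v.2 (by norm_num))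

theorem row_pt (g : RuOrder.H) (u v : Fin 4060) :
    (row (pt g u : Fin 4060)).testBit (pt g v : Fin 4060) = (row u).testBit (v : ℕ) := g.2 u v

/-- the mask of the points adjacent to their images under `z` is invariant under the elements inverting `z` -/
theorem inv_of_inverts {w : List ℕ} {M : ℕ} (h : chkAdj w M = true) {g : RuOrder.H}
    (hg : g * (wprod ml w)⁻¹ = wprod ml w * g) : _root_.Cfsg.Agent.Lib.BitNet.Inv (g : Equiv.Perm (Fin 4060)) M := by
  intro p
  have h1 := testBit_adj h (pt g p)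
  set z : RuOrder.H := wprod ml w with hz
  have h2 : pt z (pt g p) = pt g (pt z⁻¹ p) := by
    rw [← pt_mul, ← pt_mul, ← hg]
  have h3 : M.testBit (pt g p : Fin 4060) = (row (pt g p : Fin 4060)).testBit (pt z (pt g p) : Fin 4060) := h1
  have h4 := testBit_adj h (pt z⁻¹ p)
  have h5 : M.testBit (pt z⁻¹ p : Fin 4060) = (row (pt z⁻¹ p : Fin 4060)).testBit (pt z (pt z⁻¹ p) : Fin 4060) := h4
  have h6 : pt z (pt z⁻¹ p) = p := by
    rw [← pt_mul, mul_inv_cancel]
    rfl
  have h7 : _root_.Cfsg.Agent.Lib.BitNet.Inv ((z⁻¹ : RuOrder.H) : Equiv.Perm (Fin 4060)) M := by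
    refine inv_adj h (z⁻¹ : RuOrder.H).2 fun i => ?_
    show pt z⁻¹ (pt z i) = pt z (pt z⁻¹ i)
    rw [← pt_mul, ← pt_mul, inv_mul_cancel, mul_inv_cancel]
  change M.testBit (pt g p : Fin 4060) = M.testBit (p : ℕ)
  rw [h3, h2, row_pt, symm', ← h7 p]
  change _ = M.testBit (pt z⁻¹ p : Fin 4060)
  rw [h5, h6]

theorem inv_dif {σ : Equiv.Perm (Fin 4060)} {a b : ℕ} (ha : _root_.Cfsg.Agent.Lib.BitNet.Inv σ a) (hb : _root_.Cfsg.Agent.Lib.BitNet.Inv σ b) : _root_.Cfsg.Agent.Lib.BitNet.Inv σ (dif a b) :=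
  inv_xor ha (inv_land ha hb)

theorem testBit_cap {c q : ℕ} (hq : q < 4060) : ∀ l : List (ℕ × Bool),
    (∀ a ∈ l, (row (evalK (rp a.1 wi) c)).testBit q = a.2) → (cap c l).testBit q = true
  | [], _ => by
    change (2 ^ 4060 - 1).testBit q = true
    rw [Nat.testBit_two_pow_sub_one]
    simpa using hq
  | a :: l, h => by
    have ih := testBit_cap hq l fun b hb => h b (List.mem_cons_of_mem _ hb)
    have h1 := h a List.mem_cons_self
    have e : cap c (a :: l) = force (cap c l) fun m => force (evalK (rp a.1 wi) c) fun v => force (row v) fun r =>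
      force (Bool.rec (Nat.xor m (Nat.land m r)) (Nat.land m r) a.2) fun y => y := rfl
    rw [e, force_eq, force_eq, force_eq, force_eq]
    rcases a with ⟨n, b⟩
    cases b
    · change ((cap c l) ^^^ ((cap c l) &&& row (evalK (rp n wi) c))).testBit q = true
      rw [Nat.testBit_xor, Nat.testBit_and, ih, h1]
      rfl
    · change ((cap c l) &&& row (evalK (rp n wi) c)).testBit q = true
      rw [Nat.testBit_and, ih, h1]
      rfl

theorem wi_eq : (wprod ml wi : RuOrder.H) = X⁻¹ := by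
  have h := eq_of_chkEq kinv
  rw [wprod_append, wprod_nil] at h
  exact eq_inv_of_mul_eq_one_left h

theorem not_inverted (g : RuOrder.H) (hg : g * X = X⁻¹ * g) : False := by
  -- the element `g` inverts the powers of `x`
  have hpow : ∀ n : ℕ, g * X ^ n = (X⁻¹) ^ n * g := by
    intro n
    induction n with
    | zero => simp
    | succ n ih => rw [pow_succ, ← mul_assoc, ih, mul_assoc, hg, ← mul_assoc, ← pow_succ]
  have hpow' : ∀ n : ℕ, g * (wprod ml (rp n wx) : RuOrder.H)⁻¹ = wprod ml (rp n wx) * g := by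
    intro n
    rw [wprod_rp]
    change g * (X ^ n)⁻¹ = X ^ n * g
    have h1 := hpow n
    rw [inv_pow] at h1
    rw [eq_comm, eq_mul_inv_iff_mul_eq, mul_assoc, h1, ← mul_assoc, mul_inv_cancel, one_mul]
  set b : Fin 4060 := ⟨69, by norm_num⟩ with hb
  set! q : Fin 4060 := ⟨8, by norm_num⟩ with hq
  -- the cell is invariant
  have hK : _root_.Cfsg.Agent.Lib.BitNet.Inv (g : Equiv.Perm (Fin 4060)) cellK :=
    inv_dif (inv_dif (inv_dif (inv_land (inv_of_inverts adj2 (hpow' 2)) (inv_of_inverts adj4 (hpow' 4)))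
      (inv_of_inverts adj1 (hpow' 1))) (inv_of_inverts adj3 (hpow' 3))) (inv_of_inverts adj5 (hpow' 5))
  -- the pattern
  have hP := chkP_eq
  rw [chkP, force_eq] at hP
  have hP2 := chkQ_eq
  rw [tb_eq] at hP2
  have hP3 : ∀ a ∈ pat, (row 8).testBit (evalK (rp a.1 wx) 69) = a.2 := by
    intro a ha
    have h1 := (allL_iff _ _).1 hP a ha
    rw [force_eq, tb_eq] at h1
    revert h1
    cases a.2 <;> cases (row 8).testBit (evalK (rp a.1 wx) 69) <;> simp
  -- the point `g b`
  have hc1 : cellK.testBit (pt g b : Fin 4060) = true := by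
    rw [show cellK.testBit (pt g b : Fin 4060) = cellK.testBit (b : ℕ) from hK b]
    exact hP2
  have hN := chkN_eq
  rw [chkN, force_eq, allB_iff] at hN
  have hN1 := hN (pt g b : Fin 4060) (pt g b : Fin 4060).2
  rw [tb_eq, hc1] at hN1
  have hN2 : cap (pt g b : Fin 4060) pat = 0 := Nat.eq_of_beq_eq_true hN1
  have hN3 : (cap (pt g b : Fin 4060) pat).testBit (pt g q : Fin 4060) = true := by
    refine testBit_cap (pt g q : Fin 4060).2 pat fun a ha => ?_
    rw [← hP3 a ha]
    have e1 : evalK (rp a.1 wi) (pt g b : Fin 4060) = (pt g (pt (X ^ a.1) b) : Fin 4060) := by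
      rw [← evalK_eq (rp a.1 wi) (pt g b), wprod_rp, wi_eq]
      change (((pt ((X⁻¹) ^ a.1) (pt g b) : Fin 4060)) : ℕ) = _
      rw [← pt_mul, ← pt_mul, hpow]
    have e2 : evalK (rp a.1 wx) 69 = ((pt (X ^ a.1) b : Fin 4060) : ℕ) := by
      rw [show (69 : ℕ) = (b : ℕ) from rfl, ← evalK_eq (rp a.1 wx) b, wprod_rp]
      rfl
    rw [e1, e2, row_pt g (pt (X ^ a.1) b) q, symm']
  rw [hN2, Nat.zero_testBit] at hN3
  exact Bool.noConfusion hN3

/-- **`x` is not conjugate to its inverse** -/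
theorem not_conj_inv : ¬ IsConj X X⁻¹ := by
  rw [isConj_iff]
  rintro ⟨g, hg⟩
  refine not_inverted g ?_
  rw [← hg]
  group

/-- the number of fixed points -/
theorem card_fix : Nat.card (MulAction.fixedBy (Fin 4060) X) = 2 := by
  classical
  have h1 : Nat.card (MulAction.fixedBy (Fin 4060) X) = (pts 4060 (fixMask wx)).card := by
    rw [← Fintype.card_coe, ← Nat.card_eq_fintype_card]
    refine Nat.card_congr (Equiv.subtypeEquivRight fun i => ?_)
    rw [mem_pts, testBit_fixMask]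
    rfl
  have h2 : popc 12 (fixMask wx) = 2 := Nat.eq_of_beq_eq_true kfix
  rw [h1, ← h2]
  apply le_antisymm
  · exact card_pts_le (by norm_num) _
  · apply card_pts_eq
    intro i hi
    by_contra hge
    push Not at hge
    rw [fixMask, force_eq] at hi
    have e : ((2 ^ 4060 - 1) ^^^ ((2 ^ 4060 - 1) &&& diffM wx [0, 1, 2, 3, 4, 5, 6, 7, 8, 9, 10, 11])).testBit i =
        true := hi
    rw [Nat.testBit_xor, Nat.testBit_and, Nat.testBit_two_pow_sub_one] at e
    have h3 : decide (i < 4060) = false := by simpa using hge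
    rw [h3] at e
    simp at e

end Cfsg.Agent.H536.K4.RuX
end

-- part: H536/K4/Gauss
section
/-!
# The column of a nonreal element of order 16 with a centralizer of order 16 (helper536)

`Elt x` : `x ^ 16 = 1`, `x` is conjugate to `x ^ 5` but not to `x⁻¹`, `|C(x)| = 16`. The values of the characters are in
`ℤ[i]`; `re`, `im` are the real and the imaginary parts: `sum_re`, `sum_im` : the sums of the squares are 8;
`col` : orthogonality to the other columns, `block_col` : for the members of a block.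
-/

set_option autoImplicit false

open scoped ComplexConjugate
open Cfsg Cfsg.Agent.Characters.Core Cfsg.Agent.Blocks.Local

namespace Cfsg.Agent.H536.K4.Gauss

universe u

theorem fourth {μ : ℂ} (h : μ ^ 16 = 1) : ∃ a b : ℤ, μ + μ ^ 5 + μ ^ 9 + μ ^ 13 = 4 * ((a : ℂ) + b * Complex.I) := by
  by_cases h4 : μ ^ 4 = 1
  · have e5 : μ ^ 5 = μ := by rw [pow_succ, h4, one_mul]
    have e9 : μ ^ 9 = μ := by
      calc μ ^ 9 = (μ ^ 4) ^ 2 * μ := by ring
        _ = μ := by rw [h4]; ring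
    have e13 : μ ^ 13 = μ := by
      calc μ ^ 13 = (μ ^ 4) ^ 3 * μ := by ring
        _ = μ := by rw [h4]; ring
    have h1 : (μ - 1) * (μ + 1) * ((μ - Complex.I) * (μ + Complex.I)) = 0 := by
      have hI := Complex.I_sq
      linear_combination h4 + (1 - μ ^ 2) * hI
    rw [e5, e9, e13]
    rcases mul_eq_zero.1 h1 with h2 | h2
    · rcases mul_eq_zero.1 h2 with h3 | h3
      · exact ⟨1, 0, by rw [sub_eq_zero.1 h3]; push_cast; ring⟩
      · exact ⟨-1, 0, by rw [eq_neg_of_add_eq_zero_left h3]; push_cast; ring⟩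
    · rcases mul_eq_zero.1 h2 with h3 | h3
      · exact ⟨0, 1, by rw [sub_eq_zero.1 h3]; push_cast; ring⟩
      · exact ⟨0, -1, by rw [eq_neg_of_add_eq_zero_left h3]; push_cast; ring⟩
  · have h1 : (μ ^ 4 - 1) * (1 + μ ^ 4 + μ ^ 8 + μ ^ 12) = 0 := by linear_combination h
    have h2 := (mul_eq_zero.1 h1).resolve_left (sub_ne_zero.2 h4)
    exact ⟨0, 0, by push_cast; linear_combination μ * h2⟩

variable {G : Type u} [Group G]

/-- the hypotheses on the element -/
structure Elt (x : G) : Prop where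
  pow : x ^ 16 = 1
  conj5 : IsConj x (x ^ 5)
  cent : Nat.card (Subgroup.centralizer ({x} : Set G)) = 16
  nreal : ¬ IsConj x x⁻¹

variable {x : G}

theorem isConj_pow {a b : G} (h : IsConj a b) (n : ℕ) : IsConj (a ^ n) (b ^ n) := by
  obtain ⟨c, rfl⟩ := isConj_iff.1 h
  rw [isConj_iff]
  exact ⟨c, (conj_pow).symm⟩

theorem Elt.conj9 (h : Elt x) : IsConj x (x ^ 9) := by
  have h1 := isConj_pow h.conj5 5
  have h2 : (x ^ 5) ^ 5 = x ^ 9 := by
    calc (x ^ 5) ^ 5 = x ^ 16 * x ^ 9 := by rw [← pow_mul, ← pow_add]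
      _ = x ^ 9 := by rw [h.pow, one_mul]
  rw [h2] at h1
  exact h.conj5.trans h1

theorem Elt.conj13 (h : Elt x) : IsConj x (x ^ 13) := by
  have h1 := isConj_pow h.conj5 9
  have h2 : (x ^ 5) ^ 9 = x ^ 13 := by
    calc (x ^ 5) ^ 9 = (x ^ 16) ^ 2 * x ^ 13 := by rw [← pow_mul, ← pow_mul, ← pow_add]
      _ = x ^ 13 := by rw [h.pow, one_pow, one_mul]
  rw [h2] at h1
  exact h.conj9.trans h1

theorem apply_conj {χ : G → ℂ} (hχ : IsIrrCharacter G χ) {a b : G} (h : IsConj a b) : χ b = χ a := by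
  obtain ⟨c, rfl⟩ := isConj_iff.1 h
  exact isIrr_isClassFunction hχ a c

theorem Elt.exists_gauss (h : Elt x) {χ : G → ℂ} (hχ : IsIrrCharacter G χ) :
    ∃ a b : ℤ, χ x = (a : ℂ) + b * Complex.I := by
  obtain ⟨d, μ, -, h1, h2⟩ := Cfsg.Agent.Characters.GaloisBasic.isCharacter_exists_fin_pow (isIrr_isCharacter hχ) x
    (by norm_num : (16 : ℕ) ≠ 0) h.pow
  choose a b hab using fun i => fourth (h1 i)
  refine ⟨∑ i, a i, ∑ i, b i, ?_⟩
  have h3 : 4 * χ x = χ (x ^ 1) + χ (x ^ 5) + χ (x ^ 9) + χ (x ^ 13) := by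
    rw [apply_conj hχ h.conj5, apply_conj hχ h.conj9, apply_conj hχ h.conj13, pow_one]
    ring
  rw [h2, h2, h2, h2, ← Finset.sum_add_distrib, ← Finset.sum_add_distrib, ← Finset.sum_add_distrib] at h3
  have h4 : ∀ i, μ i ^ 1 + μ i ^ 5 + μ i ^ 9 + μ i ^ 13 = 4 * ((a i : ℂ) + b i * Complex.I) := by
    intro i
    rw [pow_one]
    exact hab i
  rw [Finset.sum_congr rfl fun i _ => h4 i, ← Finset.mul_sum, Finset.sum_add_distrib, ← Finset.sum_mul] at h3
  have h5 := mul_left_cancel₀ (by norm_num : (4 : ℂ) ≠ 0) h3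
  rw [h5]
  push_cast
  rfl

/-- the real part of the value -/
noncomputable def re (x : G) (χ : IrrCharacter G) : ℤ := ⌊((χ : G → ℂ) x).re⌋

/-- the imaginary part of the value -/
noncomputable def im (x : G) (χ : IrrCharacter G) : ℤ := ⌊((χ : G → ℂ) x).im⌋

theorem Elt.val (h : Elt x) (χ : IrrCharacter G) : (χ : G → ℂ) x = (re x χ : ℂ) + im x χ * Complex.I := by
  obtain ⟨a, b, hab⟩ := h.exists_gauss χ.2
  have h1 : re x χ = a := by
    unfold re
    rw [hab]
    simp
  have h2 : im x χ = b := by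
    unfold im
    rw [hab]
    simp
  rw [h1, h2, hab]

theorem val_eq {χ : IrrCharacter G} {a b : ℤ} (h : (χ : G → ℂ) x = (a : ℂ) + b * Complex.I) :
    re x χ = a ∧ im x χ = b := by
  unfold re im
  rw [h]
  simp

variable [Finite G]

theorem apply_inv (χ : IrrCharacter G) (g : G) : (χ : G → ℂ) g⁻¹ = conj ((χ : G → ℂ) g) :=
  isCharacter_apply_inv (isIrr_isCharacter χ.2) g

theorem Elt.parity (h : Elt x) (χ : IrrCharacter G) : (2 : ℤ) ∣ re x χ + im x χ - charDegree (χ : G → ℂ) := by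
  obtain ⟨M, hM⟩ := Cfsg.Agent.Blocks.ExistsModular.exists_isPModular Nat.prime_two
  have hMp : M.IsPrime := hM.2.1.isPrime
  have h1 : ∃ j : ℕ, orderOf x = 2 ^ j := by
    have h2 : orderOf x ∣ 2 ^ 4 := orderOf_dvd_of_pow_eq_one (by rw [show 2 ^ 4 = 16 by norm_num]; exact h.pow)
    obtain ⟨k, -, hk⟩ := (Nat.dvd_prime_pow Nat.prime_two).1 h2
    exact ⟨k, hk⟩
  have h2 := H618.Sigma.redC_odd_part hM χ (Commute.one_right x) h1 (by rw [orderOf_one]; exact odd_one)
  rw [mul_one, h.val χ, Cfsg.Agent.Blocks.Basic.irr_one_eq_charDegree χ.2] at h2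
  have hch : CharP (ResField M) 2 := charP_resField hM
  have h20 : (2 : ResField M) = 0 := CharP.cast_eq_zero (ResField M) 2
  have hIm : MemLocalRing M Complex.I := memLocalRing_of_isIntegral (by
    refine IsIntegral.of_pow (n := 4) (by norm_num) ?_
    rw [Complex.I_pow_four]
    exact isIntegral_one)
  have hI : redC M Complex.I = 1 := by
    have h3 : redC M Complex.I ^ 2 = -1 := by
      rw [← redC_pow hIm, Complex.I_sq, redC_neg memLocalRing_one, redC_one]
    have h4 : (redC M Complex.I - 1) ^ 2 = 0 := by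
      linear_combination h3 - redC M Complex.I * h20
    exact sub_eq_zero.1 (pow_eq_zero_iff (by norm_num) |>.1 h4)
  rw [redC_add (memLocalRing_intCast _) (memLocalRing_mul (memLocalRing_intCast _) hIm),
    redC_mul (memLocalRing_intCast _) hIm, hI, redC_intCast, redC_intCast, redC_natCast, mul_one] at h2
  have h3 : ((re x χ + im x χ - charDegree (χ : G → ℂ) : ℤ) : ResField M) = 0 := by
    push_cast
    rw [h2, sub_self]
  exact_mod_cast (CharP.intCast_eq_zero_iff (ResField M) 2 _).1 h3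

theorem Elt.sum_sq (h : Elt x) [Fintype (IrrCharacter G)] :
    ∑ χ : IrrCharacter G, re x χ ^ 2 = 8 ∧ ∑ χ : IrrCharacter G, im x χ ^ 2 = 8 := by
  classical
  have := Fintype.ofFinite G
  have h1 := S0145.sum_irr_mul_conj x x
  rw [if_pos (IsConj.refl x), h.cent] at h1
  have h2 := S0145.sum_irr_mul_conj x x⁻¹
  rw [if_neg h.nreal] at h2
  have e1 : ∑ χ : IrrCharacter G, (re x χ ^ 2 + im x χ ^ 2) = 16 := by
    have h3 : ∀ χ : IrrCharacter G, (χ : G → ℂ) x * conj ((χ : G → ℂ) x) = ((re x χ ^ 2 + im x χ ^ 2 : ℤ) : ℂ) := by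
      intro χ
      rw [h.val χ]
      simp only [map_add, map_mul, Complex.conj_I, map_intCast]
      push_cast
      linear_combination (-(im x χ : ℂ) ^ 2) * Complex.I_sq
    rw [Finset.sum_congr rfl fun χ _ => h3 χ] at h1
    exact_mod_cast h1
  have e2 : ∑ χ : IrrCharacter G, (re x χ ^ 2 - im x χ ^ 2) = 0 := by
    have h3 : ∀ χ : IrrCharacter G, (χ : G → ℂ) x * conj ((χ : G → ℂ) x⁻¹) =
        ((re x χ ^ 2 - im x χ ^ 2 : ℤ) : ℂ) + ((2 * re x χ * im x χ : ℤ) : ℂ) * Complex.I := by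
      intro χ
      rw [apply_inv, Complex.conj_conj, h.val χ]
      push_cast
      linear_combination ((im x χ : ℂ) ^ 2) * Complex.I_sq
    rw [Finset.sum_congr rfl fun χ _ => h3 χ, Finset.sum_add_distrib, ← Finset.sum_mul, ← Int.cast_sum,
      ← Int.cast_sum] at h2
    have h4 := congrArg Complex.re h2
    simp only [Complex.add_re, Complex.intCast_re, Complex.mul_re, Complex.I_re, mul_zero, Complex.intCast_im,
      Complex.I_im, mul_one, sub_zero, add_zero, Complex.zero_re] at h4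
    exact_mod_cast h4
  rw [Finset.sum_add_distrib] at e1
  rw [Finset.sum_sub_distrib] at e2
  omega

/-- the other columns -/
theorem Elt.col (h : Elt x) [Fintype (IrrCharacter G)] {y : G} (hy : ¬ IsConj y x) (hy' : ¬ IsConj y x⁻¹) :
    ∑ χ : IrrCharacter G, (re x χ : ℂ) * (χ : G → ℂ) y = 0 := by
  classical
  have := Fintype.ofFinite G
  have h1 := S0145.sum_irr_mul_conj y x
  rw [if_neg hy] at h1
  have h2 := S0145.sum_irr_mul_conj y x⁻¹
  rw [if_neg hy'] at h2
  have h3 : 2 * ∑ χ : IrrCharacter G, (re x χ : ℂ) * (χ : G → ℂ) y = 0 := by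
    rw [← add_zero (0 : ℂ)]
    nth_rewrite 1 [← h1]
    rw [← h2, ← Finset.sum_add_distrib, Finset.mul_sum]
    refine Finset.sum_congr rfl fun χ _ => ?_
    rw [apply_inv, Complex.conj_conj, h.val χ]
    simp only [map_add, map_mul, Complex.conj_I, map_intCast]
    ring
  exact (mul_eq_zero.1 h3).resolve_left (by norm_num)

/-- the members of a block -/
theorem Elt.block_col (h : Elt x) {p : ℕ} [Fact p.Prime] {M : Ideal AlgInt} (hM : IsPModular p M)
    {B : Set (IrrCharacter G)} (hB : IsPBlock M B) {y : G} (hx : ¬ p ∣ orderOf x) (hy : p ∣ orderOf y) :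
    ∑ᶠ χ ∈ B, (re x χ : ℂ) * (χ : G → ℂ) y = 0 := by
  classical
  have hfin : Finite (IrrCharacter G) := finite_irr
  have h1 := S0907.result p M hM B hB x y hx hy
  have h2 := S0907.result p M hM B hB x⁻¹ y (by rwa [orderOf_inv]) hy
  have hBf : B.Finite := Set.toFinite B
  have h3 : ∑ᶠ χ ∈ B, ((χ : G → ℂ) x * conj ((χ : G → ℂ) y) + (χ : G → ℂ) x⁻¹ * conj ((χ : G → ℂ) y)) = 0 := by
    rw [finsum_mem_add_distrib hBf, h1, h2, add_zero]
  have h4 : ∑ᶠ χ ∈ B, (2 : ℂ) * conj ((re x χ : ℂ) * (χ : G → ℂ) y) = 0 := by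
    rw [← h3]
    refine finsum_mem_congr rfl fun χ _ => ?_
    rw [apply_inv, h.val χ]
    simp only [map_add, map_mul, Complex.conj_I, map_intCast]
    ring
  rw [finsum_mem_eq_finite_toFinset_sum _ hBf] at h4 ⊢
  rw [← Finset.mul_sum, ← map_sum] at h4
  have h5 := (mul_eq_zero.1 h4).resolve_left (by norm_num)
  exact (map_eq_zero _).1 h5

end Cfsg.Agent.H536.K4.Gauss
end

-- part: H536/K4/GaussFour
section
/-!
# Four characters of odd degree and an element of order 16 (helper536)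

If exactly four irreducible characters have odd degree and their values at `x` are real, these values are `±1`, exactly one
further character has a value with a nonzero real part, and this part is `±2`.
-/

set_option autoImplicit false

open scoped ComplexConjugate
open Cfsg Cfsg.Agent.Characters.Core Cfsg.Agent.H268.K4.Mod4

namespace Cfsg.Agent.H536.K4.Gauss

universe u
variable {G : Type u} [Group G] [Finite G] {x : G}

theorem Elt.cj_val (h : Elt x) (χ : IrrCharacter G) : re x (cj χ) = re x χ ∧ im x (cj χ) = -im x χ := by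
  apply val_eq
  change conj ((χ : G → ℂ) x) = _
  rw [h.val χ]
  simp only [map_add, map_mul, Complex.conj_I, map_intCast]
  push_cast
  ring

theorem sq_mod8 {a b : ℤ} (ha : a = -1 ∨ a = 0 ∨ a = 1) (hab : (2 : ℤ) ∣ a + b) :
    (8 : ℤ) ∣ b ^ 2 - a ^ 2 - 4 * (if b % 4 = 2 then 1 else 0) := by
  have h1 : ∀ c : ℤ, (8 : ℤ) ∣ (2 * c + 1) ^ 2 - 1 := by
    intro c
    have h2 : (2 * c + 1) ^ 2 - 1 = 4 * (c * (c + 1)) := by ring
    rw [h2, show (8 : ℤ) = 4 * 2 by norm_num]
    exact mul_dvd_mul_left 4 (Int.even_mul_succ_self c).two_dvd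
  rcases ha with rfl | rfl | rfl
  · obtain ⟨c, hc⟩ := hab
    have hb : b = 2 * c + 1 := by omega
    rw [if_neg (by omega), hb]
    have := h1 c
    ring_nf at this ⊢
    exact this
  · obtain ⟨c, hc⟩ := hab
    have hb : b = 2 * c := by omega
    rcases Int.even_or_odd c with ⟨k, hk⟩ | ⟨k, hk⟩
    · rw [if_neg (by omega), hb, hk]
      exact ⟨2 * k ^ 2, by ring⟩
    · rw [if_pos (by omega), hb, hk]
      exact ⟨2 * (k ^ 2 + k), by ring⟩
  · obtain ⟨c, hc⟩ := hab
    have hb : b = 2 * (c - 1) + 1 := by omega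
    rw [if_neg (by omega), hb]
    have := h1 (c - 1)
    ring_nf at this ⊢
    exact this

theorem Elt.exists_two (h : Elt x) [Fintype (IrrCharacter G)] (O : Finset (IrrCharacter G))
    (hO : ∀ χ, χ ∈ O ↔ ¬ 2 ∣ charDegree (χ : G → ℂ)) (h4 : O.card = 4) (hreal : ∀ χ ∈ O, im x χ = 0) :
    (∀ χ ∈ O, re x χ = 1 ∨ re x χ = -1) ∧
      ∃ e, e ∉ O ∧ (re x e = 2 ∨ re x e = -2) ∧ ∀ χ, χ ∉ O → χ ≠ e → re x χ = 0 := by
  classical
  obtain ⟨ha, hb⟩ := h.sum_sq
  have hodd : ∀ χ ∈ O, re x χ % 2 = 1 := by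
    intro χ hχ
    have h1 := h.parity χ
    have h2 := (hO χ).1 hχ
    rw [hreal χ hχ] at h1
    omega
  have hle : ∀ χ, re x χ ^ 2 ≤ 8 := fun χ => by
    rw [← ha]
    exact Finset.single_le_sum (f := fun χ => re x χ ^ 2) (fun ψ _ => sq_nonneg _) (Finset.mem_univ χ)
  have h1 : ∀ χ ∈ O, re x χ = 1 ∨ re x χ = -1 := by
    intro χ hχ
    have h2 := hodd χ hχ
    have h3 := hle χ
    have h5 : -3 < re x χ := by nlinarith only [h3]
    have h6 : re x χ < 3 := by nlinarith only [h3]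
    omega
  have hsO : ∑ χ ∈ O, re x χ ^ 2 = 4 := by
    have h2 : ∀ χ ∈ O, re x χ ^ 2 = 1 := fun χ hχ => by
      rcases h1 χ hχ with h3 | h3 <;> rw [h3] <;> norm_num
    rw [Finset.sum_congr rfl h2, Finset.sum_const, h4]
    norm_num
  have hsC : ∑ χ ∈ Oᶜ, re x χ ^ 2 = 4 := by
    have h2 := Finset.sum_add_sum_compl O (fun χ => re x χ ^ 2)
    rw [hsO, ha] at h2
    omega
  have hbC : ∑ χ ∈ Oᶜ, im x χ ^ 2 = 8 := by
    have h2 := Finset.sum_add_sum_compl O (fun χ => im x χ ^ 2)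
    have h3 : ∑ χ ∈ O, im x χ ^ 2 = 0 := Finset.sum_eq_zero fun χ hχ => by rw [hreal χ hχ]; norm_num
    rw [h3, hb] at h2
    omega
  have hleC : ∀ χ ∈ Oᶜ, re x χ ^ 2 ≤ 4 := fun χ hχ => by
    rw [← hsC]
    exact Finset.single_le_sum (f := fun χ => re x χ ^ 2) (fun ψ _ => sq_nonneg _) hχ
  have hex : ∃ e ∈ Oᶜ, re x e = 2 ∨ re x e = -2 := by
    by_contra hcon
    push Not at hcon
    have hsm : ∀ χ ∈ Oᶜ, re x χ = -1 ∨ re x χ = 0 ∨ re x χ = 1 := by
      intro χ hχ
      have h2 := hleC χ hχ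
      obtain ⟨h3, h5⟩ := hcon χ hχ
      have h6 : -3 < re x χ := by nlinarith only [h2]
      have h7 : re x χ < 3 := by nlinarith only [h2]
      omega
    have h8 : (8 : ℤ) ∣ ∑ χ ∈ Oᶜ, (im x χ ^ 2 - re x χ ^ 2 - 4 * (if im x χ % 4 = 2 then 1 else 0)) := by
      refine Finset.dvd_sum fun χ hχ => sq_mod8 (hsm χ hχ) ?_
      have h2 := h.parity χ
      have h3 : 2 ∣ charDegree (χ : G → ℂ) := by
        by_contra h5
        exact (Finset.mem_compl.1 hχ) ((hO χ).2 h5)
      omega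
    rw [Finset.sum_sub_distrib, Finset.sum_sub_distrib, hbC, hsC, ← Finset.mul_sum, ← Finset.sum_filter,
      Finset.sum_const, nsmul_eq_mul, mul_one] at h8
    -- the number of the characters with `im = 2` modulo 4 is even
    have hev : ((Oᶜ.filter fun χ => im x χ % 4 = 2).card : ZMod 2) = 0 := by
      have h2 : ∑ χ ∈ Oᶜ.filter (fun χ => im x χ % 4 = 2), (1 : ZMod 2) = 0 := by
        refine Finset.sum_involution (fun χ _ => cj χ) (fun _ _ => by decide) ?_ ?_ (fun χ _ => cj_cj χ)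
        · intro χ hχ _ h3
          have h5 := (h.cj_val χ).2
          rw [h3] at h5
          have h6 := (Finset.mem_filter.1 hχ).2
          omega
        · intro χ hχ
          rw [Finset.mem_filter, Finset.mem_compl, hO] at hχ ⊢
          rw [charDegree_cj, (h.cj_val χ).2]
          exact ⟨hχ.1, by omega⟩
      rw [Finset.sum_const, nsmul_eq_mul, mul_one] at h2
      exact h2
    have h9 : 2 ∣ (Oᶜ.filter fun χ => im x χ % 4 = 2).card := (ZMod.natCast_eq_zero_iff _ _).1 hev
    omega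
  refine ⟨h1, ?_⟩
  obtain ⟨e, he, he2⟩ := hex
  refine ⟨e, Finset.mem_compl.1 he, he2, fun χ hχ hne => ?_⟩
  have h2 : re x e ^ 2 = 4 := by rcases he2 with h3 | h3 <;> rw [h3] <;> norm_num
  have h3 := Finset.add_sum_erase Oᶜ (fun χ => re x χ ^ 2) he
  rw [hsC, h2] at h3
  have h5 : ∑ χ ∈ Oᶜ.erase e, re x χ ^ 2 = 0 := by omega
  have h6 := (Finset.sum_eq_zero_iff_of_nonneg fun ψ _ => sq_nonneg _).1 h5 χ
    (Finset.mem_erase.2 ⟨hne, Finset.mem_compl.2 hχ⟩)
  exact pow_eq_zero_iff (by norm_num) |>.1 h6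

end Cfsg.Agent.H536.K4.Gauss
end

-- part: H536/K4/FxVal
section
/-!
# Characters fixed by the Galois group: integral values and congruences (helper536)
-/

set_option autoImplicit false

open scoped ComplexConjugate
open Cfsg Cfsg.Agent.Characters.Core Cfsg.Agent.Blocks.Local

namespace Cfsg.Agent.H536.K4.Gauss

universe u
variable {G : Type u} [Group G] [Finite G]

/-- fixed by the Galois group -/
def Fx (χ : IrrCharacter G) : Prop :=
  ∀ k : ℕ, k.Coprime (Nat.card G) → ∀ g : G, (χ : G → ℂ) (g ^ k) = (χ : G → ℂ) g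

/-- the value as an integer -/
noncomputable def vl (χ : IrrCharacter G) (g : G) : ℤ := ⌊((χ : G → ℂ) g).re⌋

theorem Fx.val {χ : IrrCharacter G} (h : Fx χ) (g : G) : (χ : G → ℂ) g = (vl χ g : ℂ) := by
  obtain ⟨k, hk⟩ := Cfsg.Agent.Characters.GaloisBasic.exists_int_of_rat (isIrr_isCharacter χ.2) g
    ((Cfsg.Agent.Characters.GaloisBasic.exists_rat_iff (isIrr_isCharacter χ.2) g).2 fun m hm => h m hm g)
  unfold vl
  rw [hk]
  simp

theorem Fx.modEq {χ : IrrCharacter G} (h : Fx χ) {p : ℕ} [hp : Fact p.Prime] {y : G} (hy : orderOf y = p) :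
    (p : ℤ) ∣ vl χ y - charDegree (χ : G → ℂ) := by
  obtain ⟨M, hM⟩ := Cfsg.Agent.Blocks.ExistsModular.exists_isPModular hp.out
  have hMp : M.IsPrime := hM.2.1.isPrime
  have h1 : IsPPart p y y := ⟨1, mul_one y, Commute.one_right y, ⟨1, by rw [hy, pow_one]⟩, by
    rw [orderOf_one]; exact hp.out.one_lt.ne' ∘ Nat.dvd_one.1⟩
  have h2 := Cfsg.Agent.CharactersDeep.ModCongr.memLocalIdeal_character_sub hM χ.2 y y h1
  rw [inv_mul_cancel, h.val, Cfsg.Agent.Blocks.Basic.irr_one_eq_charDegree χ.2] at h2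
  have h3 : (((vl χ y : ℤ) : ℂ) - ((charDegree (χ : G → ℂ) : ℕ) : ℂ)) = ((vl χ y - charDegree (χ : G → ℂ) : ℤ) : ℂ) := by
    push_cast
    rfl
  rw [h3, memLocalIdeal_intCast_iff hM] at h2
  exact h2

/-- the sum of the squares of some integral values -/
theorem sum_sq_le (S : Finset (IrrCharacter G)) (hS : ∀ χ ∈ S, Fx χ) (y : G) :
    ∑ χ ∈ S, vl χ y ^ 2 ≤ (Nat.card (Subgroup.centralizer ({y} : Set G)) : ℤ) := by
  classical
  have := Fintype.ofFinite G
  have : Finite (IrrCharacter G) := finite_irr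
  have := Fintype.ofFinite (IrrCharacter G)
  have h1 := S0145.sum_irr_mul_conj y y
  rw [if_pos (IsConj.refl y)] at h1
  have h2 : ∑ χ : IrrCharacter G, ‖(χ : G → ℂ) y‖ ^ 2 = (Nat.card (Subgroup.centralizer ({y} : Set G)) : ℝ) := by
    have h3 : ∀ χ : IrrCharacter G, (χ : G → ℂ) y * conj ((χ : G → ℂ) y) = ((‖(χ : G → ℂ) y‖ ^ 2 : ℝ) : ℂ) := by
      intro χ
      rw [Complex.mul_conj, Complex.normSq_eq_norm_sq]
    rw [Finset.sum_congr rfl fun χ _ => h3 χ, ← Complex.ofReal_sum] at h1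
    exact_mod_cast h1
  have h3 : ∑ χ ∈ S, ((vl χ y : ℤ) : ℝ) ^ 2 ≤ ∑ χ : IrrCharacter G, ‖(χ : G → ℂ) y‖ ^ 2 := by
    refine le_trans (Finset.sum_le_sum fun χ hχ => ?_)
      (Finset.sum_le_sum_of_subset_of_nonneg (Finset.subset_univ S) fun _ _ _ => sq_nonneg _)
    rw [(hS χ hχ).val, Complex.norm_intCast, sq_abs]
  rw [h2] at h3
  exact_mod_cast h3

/-- the Galois conjugate -/
noncomputable def pw {k : ℕ} (hk : k.Coprime (Nat.card G)) (χ : IrrCharacter G) : IrrCharacter G :=
  ⟨fun g => (χ : G → ℂ) (g ^ k), Cfsg.Agent.Characters.GaloisIrr.isIrr_pow hk χ.2⟩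

theorem pw_apply {k : ℕ} (hk : k.Coprime (Nat.card G)) (χ : IrrCharacter G) (g : G) :
    (pw hk χ : G → ℂ) g = (χ : G → ℂ) (g ^ k) := rfl

theorem charDegree_pw {k : ℕ} (hk : k.Coprime (Nat.card G)) (χ : IrrCharacter G) :
    charDegree (pw hk χ : G → ℂ) = charDegree (χ : G → ℂ) := by
  apply Cfsg.Agent.Blocks.Basic.charDegree_of_eq
  rw [pw_apply, one_pow, Cfsg.Agent.Blocks.Basic.irr_one_eq_charDegree χ.2]

theorem surj_pow {k : ℕ} (hk : k.Coprime (Nat.card G)) (g : G) : ∃ h : G, h ^ k = g := by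
  obtain ⟨h, hh⟩ := (powCoprime hk.symm).surjective g
  exact ⟨h, hh⟩

theorem pw_injective {k : ℕ} (hk : k.Coprime (Nat.card G)) : Function.Injective (pw hk : IrrCharacter G → _) := by
  intro χ ψ h
  apply Subtype.ext
  funext g
  obtain ⟨a, rfl⟩ := surj_pow hk g
  exact congrFun (congrArg Subtype.val h) a

theorem fx_iff {χ : IrrCharacter G} : Fx χ ↔ ∀ (k : ℕ) (hk : k.Coprime (Nat.card G)), pw hk χ = χ := by
  constructor
  · intro h k hk
    exact Subtype.ext (funext fun g => h k hk g)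
  · intro h k hk g
    exact congrFun (congrArg Subtype.val (h k hk)) g

variable {x : G}

theorem Elt.apply_pow (h : Elt x) (χ : IrrCharacter G) {k : ℕ} (hk : k.Coprime (Nat.card G)) :
    (χ : G → ℂ) (x ^ k) = (χ : G → ℂ) x ∨ (χ : G → ℂ) (x ^ k) = conj ((χ : G → ℂ) x) := by
  have h16 : 16 ∣ Nat.card G := by
    rw [← h.cent]
    exact Subgroup.card_subgroup_dvd_card _
  have hodd : k % 2 = 1 := by
    by_contra hcon
    have h2 : 2 ∣ k := by omega
    have h3 : 2 ∣ Nat.card G := (by norm_num : 2 ∣ 16).trans h16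
    have h4 := Nat.dvd_gcd h2 h3
    rw [hk] at h4
    omega
  have hr : x ^ k = x ^ (k % 16) := by
    conv_lhs => rw [← Nat.div_add_mod k 16]
    rw [pow_add, pow_mul, h.pow, one_pow, one_mul]
  have key : ∀ {a b : ℕ}, a + b = 16 → x ^ a = (x ^ b)⁻¹ := fun {a b} hab => by
    rw [eq_inv_iff_mul_eq_one, ← pow_add, hab, h.pow]
  have hlt : k % 16 < 16 := Nat.mod_lt _ (by norm_num)
  have hodd2 : (k % 16) % 2 = 1 := by omega
  rw [hr]
  generalize k % 16 = r at hlt hodd2
  interval_cases r <;> first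
    | (clear * - hodd2; omega)
    | (left; rw [pow_one])
    | exact Or.inl (apply_conj χ.2 h.conj5)
    | exact Or.inl (apply_conj χ.2 h.conj9)
    | exact Or.inl (apply_conj χ.2 h.conj13)
    | (right; rw [key (a := 3) (b := 13) (by norm_num), apply_inv, apply_conj χ.2 h.conj13]; done)
    | (right; rw [key (a := 7) (b := 9) (by norm_num), apply_inv, apply_conj χ.2 h.conj9]; done)
    | (right; rw [key (a := 11) (b := 5) (by norm_num), apply_inv, apply_conj χ.2 h.conj5]; done)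
    | (right; rw [key (a := 15) (b := 1) (by norm_num), apply_inv, pow_one]; done)

theorem Elt.re_pw (h : Elt x) (χ : IrrCharacter G) {k : ℕ} (hk : k.Coprime (Nat.card G)) :
    re x (pw hk χ) = re x χ := by
  unfold re
  rw [pw_apply]
  rcases h.apply_pow χ hk with h1 | h1 <;> rw [h1]
  rw [Complex.conj_re]

end Cfsg.Agent.H536.K4.Gauss
end

-- part: H536/K4/RuSearch
section
/-!
# The finite search for the row Ru (helper536)

`pos`, `neg` : no odd divisors `|B|`, `|C|` of `|Ru|` and no even divisor `|E|` satisfy the relations of the columns of the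
elements of order 1, 13 and 29.
-/

set_option autoImplicit false
set_option maxRecDepth 100000

namespace Cfsg.Agent.H536.K4.RuSearch

/-- the odd divisors of the order -/
def L : List ℕ := [1, 3, 9, 27].flatMap fun a => [1, 5, 25, 125].flatMap fun b => [1, 7].flatMap fun c =>
  [1, 13].flatMap fun d => [1, 29].map fun e => a * b * c * d * e

theorem mem_L {n : ℕ} (h : n ∣ 8906625) : n ∈ L := by
  have h1 : n ∣ 27 * (125 * (7 * (13 * 29))) := by simpa using h
  obtain ⟨a, m1, ha, h2, rfl⟩ := (Nat.dvd_mul).1 h1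
  obtain ⟨b, m2, hb, h3, rfl⟩ := (Nat.dvd_mul).1 h2
  obtain ⟨c, m3, hc, h4, rfl⟩ := (Nat.dvd_mul).1 h3
  obtain ⟨d, e, hd, he, rfl⟩ := (Nat.dvd_mul).1 h4
  have ha' : a ∈ [1, 3, 9, 27] := by
    have h5 : a ≤ 27 := Nat.le_of_dvd (by norm_num) ha
    interval_cases a <;> first | decide | (exfalso; revert ha; decide)
  have hb' : b ∈ [1, 5, 25, 125] := by
    have h5 : b ≤ 125 := Nat.le_of_dvd (by norm_num) hb
    interval_cases b <;> first | decide | (exfalso; revert hb; decide)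
  have hc' : c ∈ [1, 7] := by
    have h5 : c ≤ 7 := Nat.le_of_dvd (by norm_num) hc
    interval_cases c <;> first | decide | (exfalso; revert hc; decide)
  have hd' : d ∈ [1, 13] := by
    have h5 : d ≤ 13 := Nat.le_of_dvd (by norm_num) hd
    interval_cases d <;> first | decide | (exfalso; revert hd; decide)
  have he' : e ∈ [1, 29] := by
    have h5 : e ≤ 29 := Nat.le_of_dvd (by norm_num) he
    interval_cases e <;> first | decide | (exfalso; revert he; decide)
  unfold L
  simp only [List.mem_flatMap, List.mem_map]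
  exact ⟨a, ha', b, hb', c, hc', d, hd', e, he', by ring⟩

/-- with signs -/
def LS : List ℤ := (L.map fun n : ℕ => (n : ℤ)) ++ (L.map fun n : ℕ => -(n : ℤ))

def R5 : List ℤ := [-5, -4, -3, -2, -1, 0, 1, 2, 3, 4, 5]
def R6 : List ℤ := [-6, -5, -4, -3, -2, -1, 0, 1, 2, 3, 4, 5, 6]

/-- the column of the element of order 29 -/
def r29 (B C E : ℤ) : Bool :=
  R5.any fun b => decide ((b - B) % 29 = 0) && R5.any fun c => decide ((c - C) % 29 = 0) &&
    R5.any fun e => decide ((e - E) % 29 = 0) && (decide (1 + b + c + 2 * e = 0) &&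
      decide (1 + b * b + c * c + e * e ≤ 29))

/-- the principal 13-block -/
def sub13 (b c e : ℤ) : Bool :=
  [true, false].any fun i => [true, false].any fun j => [true, false].any fun k =>
    (!i || decide (b = 1) || decide (b = -1)) && ((!j || decide (c = 1) || decide (c = -1)) &&
    ((!k || decide (e = 1) || decide (e = -1)) &&
      decide (1 + (if i then b else 0) + (if j then c else 0) + 2 * (if k then e else 0) = 0)))

/-- the column of the element of order 13 -/
def r13 (s B C E : ℤ) : Bool :=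
  R6.any fun b => decide ((b - B) % 13 = 0) && R6.any fun c => decide ((c - C) % 13 = 0) &&
    R6.any fun e => decide ((e - E) % 13 = 0) && (decide (1 + 3 * s + b + c + 2 * e = 0) &&
      (decide (10 + b * b + c * c + e * e ≤ 52) && sub13 b c e))

/-- the possible pairs -/
def cand (B C : ℤ) : Bool :=
  decide ((784 + B + C) % 4 = 0) && (decide ((B.natAbs : ℤ) % 4 = (C.natAbs : ℤ) % 4) &&
    (decide (1 < B.natAbs) && (decide (1 < C.natAbs) && (decide (784 + B + C ≠ 0) &&
      (decide (145926144000 % ((784 + B + C) / 2).natAbs = 0) &&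
        (r29 B C (-((784 + B + C) / 2)) && r13 1 B C (-((784 + B + C) / 2))))))))

/-- the entries of `LS`, shifted -/
private def LN : List ℕ := [(10000001 : ℕ), (10000029 : ℕ), (10000013 : ℕ), (10000377 : ℕ), (10000007 : ℕ), (10000203 : ℕ), (10000091 : ℕ), (10002639 : ℕ), (10000005 : ℕ), (10000145 : ℕ), (10000065 : ℕ), (10001885 : ℕ), (10000035 : ℕ), (10001015 : ℕ), (10000455 : ℕ), (10013195 : ℕ), (10000025 : ℕ), (10000725 : ℕ), (10000325 : ℕ), (10009425 : ℕ), (10000175 : ℕ), (10005075 : ℕ), (10002275 : ℕ), (10065975 : ℕ), (10000125 : ℕ), (10003625 : ℕ), (10001625 : ℕ), (10047125 : ℕ), (10000875 : ℕ), (10025375 : ℕ), (10011375 : ℕ), (10329875 : ℕ), (10000003 : ℕ), (10000087 : ℕ), (10000039 : ℕ), (10001131 : ℕ), (10000021 : ℕ), (10000609 : ℕ), (10000273 : ℕ), (10007917 : ℕ), (10000015 : ℕ), (10000435 : ℕ), (10000195 : ℕ), (10005655 : ℕ), (10000105 : ℕ), (10003045 : ℕ), (10001365 : ℕ), (10039585 : ℕ), (10000075 : ℕ), (10002175 : ℕ), (10000975 : ℕ), (10028275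 : ℕ), (10000525 : ℕ), (10015225 : ℕ), (10006825 : ℕ), (10197925 : ℕ), (10000375 : ℕ), (10010875 : ℕ), (10004875 : ℕ), (10141375 : ℕ), (10002625 : ℕ), (10076125 : ℕ), (10034125 : ℕ), (10989625 : ℕ), (10000009 : ℕ), (10000261 : ℕ), (10000117 : ℕ), (10003393 : ℕ), (10000063 : ℕ), (10001827 : ℕ), (10000819 : ℕ), (10023751 : ℕ), (10000045 : ℕ), (10001305 : ℕ), (10000585 : ℕ), (10016965 : ℕ), (10000315 : ℕ), (10009135 : ℕ), (10004095 : ℕ), (10118755 : ℕ), (10000225 : ℕ), (10006525 : ℕ), (10002925 : ℕ), (10084825 : ℕ), (10001575 : ℕ), (10045675 : ℕ), (10020475 : ℕ), (10593775 : ℕ), (10001125 : ℕ), (10032625 : ℕ), (10014625 : ℕ), (10424125 : ℕ), (10007875 : ℕ), (10228375 : ℕ), (10102375 : ℕ), (12968875 : ℕ), (10000027 : ℕ), (10000783 : ℕ), (10000351 : ℕ), (10010179 : ℕ), (10000189 : ℕ), (10005481 : ℕ), (10002457 : ℕ), (10071253 : ℕ), (10000135 : ℕ), (10003915 : ℕ), (10001755 : ℕ), (10050895 : ℕ), (10000945 : ℕ), (10027405 : ℕ), (10012285 : ℕ), (10356265 : ℕ), (10000675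 : ℕ), (10019575 : ℕ), (10008775 : ℕ), (10254475 : ℕ), (10004725 : ℕ), (10137025 : ℕ), (10061425 : ℕ), (11781325 : ℕ), (10003375 : ℕ), (10097875 : ℕ), (10043875 : ℕ), (11272375 : ℕ), (10023625 : ℕ), (10685125 : ℕ), (10307125 : ℕ), (18906625 : ℕ), (9999999 : ℕ), (9999971 : ℕ), (9999987 : ℕ), (9999623 : ℕ), (9999993 : ℕ), (9999797 : ℕ), (9999909 : ℕ), (9997361 : ℕ), (9999995 : ℕ), (9999855 : ℕ), (9999935 : ℕ), (9998115 : ℕ), (9999965 : ℕ), (9998985 : ℕ), (9999545 : ℕ), (9986805 : ℕ), (9999975 : ℕ), (9999275 : ℕ), (9999675 : ℕ), (9990575 : ℕ), (9999825 : ℕ), (9994925 : ℕ), (9997725 : ℕ), (9934025 : ℕ), (9999875 : ℕ), (9996375 : ℕ), (9998375 : ℕ), (9952875 : ℕ), (9999125 : ℕ), (9974625 : ℕ), (9988625 : ℕ), (9670125 : ℕ), (9999997 : ℕ), (9999913 : ℕ), (9999961 : ℕ), (9998869 : ℕ), (9999979 : ℕ), (9999391 : ℕ), (9999727 : ℕ), (9992083 : ℕ), (9999985 : ℕ), (9999565 : ℕ), (9999805 : ℕ), (9994345 : ℕ), (9999895 : ℕ), (9996955 : ℕ), (9998635 : ℕ), (9960415 : ℕ), (9999925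 : ℕ), (9997825 : ℕ), (9999025 : ℕ), (9971725 : ℕ), (9999475 : ℕ), (9984775 : ℕ), (9993175 : ℕ), (9802075 : ℕ), (9999625 : ℕ), (9989125 : ℕ), (9995125 : ℕ), (9858625 : ℕ), (9997375 : ℕ), (9923875 : ℕ), (9965875 : ℕ), (9010375 : ℕ), (9999991 : ℕ), (9999739 : ℕ), (9999883 : ℕ), (9996607 : ℕ), (9999937 : ℕ), (9998173 : ℕ), (9999181 : ℕ), (9976249 : ℕ), (9999955 : ℕ), (9998695 : ℕ), (9999415 : ℕ), (9983035 : ℕ), (9999685 : ℕ), (9990865 : ℕ), (9995905 : ℕ), (9881245 : ℕ), (9999775 : ℕ), (9993475 : ℕ), (9997075 : ℕ), (9915175 : ℕ), (9998425 : ℕ), (9954325 : ℕ), (9979525 : ℕ), (9406225 : ℕ), (9998875 : ℕ), (9967375 : ℕ), (9985375 : ℕ), (9575875 : ℕ), (9992125 : ℕ), (9771625 : ℕ), (9897625 : ℕ), (7031125 : ℕ), (9999973 : ℕ), (9999217 : ℕ), (9999649 : ℕ), (9989821 : ℕ), (9999811 : ℕ), (9994519 : ℕ), (9997543 : ℕ), (9928747 : ℕ), (9999865 : ℕ), (9996085 : ℕ), (9998245 : ℕ), (9949105 : ℕ), (9999055 : ℕ), (9972595 : ℕ), (9987715 : ℕ), (9643735 : ℕ), (9999325 : ℕ), (9980425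 : ℕ), (9991225 : ℕ), (9745525 : ℕ), (9995275 : ℕ), (9862975 : ℕ), (9938575 : ℕ), (8218675 : ℕ), (9996625 : ℕ), (9902125 : ℕ), (9956125 : ℕ), (8727625 : ℕ), (9976375 : ℕ), (9314875 : ℕ), (9692875 : ℕ), (1093375 : ℕ)]

private theorem LS_eq : LS = LN.map fun n : ℕ => Int.subNatNat n 10000000 := by decide +kernel

/-- a necessary condition on natural numbers -/
private def pre (s : ℕ) : Bool :=
  Nat.beq (Nat.mod s 4) 0 &&
    Nat.beq (Nat.mod 145926144000 (Nat.div (Nat.add (Nat.sub s 20000000) (Nat.sub 20000000 s)) 2)) 0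

private theorem pre_of_cand {b c : ℕ} (h : cand (Int.subNatNat b 10000000) (Int.subNatNat c 10000000) = true) :
    pre (Nat.add (Nat.add 784 b) c) = true := by
  rw [Int.subNatNat_eq_coe, Int.subNatNat_eq_coe] at h
  simp only [cand, Bool.and_eq_true, decide_eq_true_eq] at h
  obtain ⟨h1, -, -, -, -, h2, -⟩ := h
  have e : ((784 + ((b : ℤ) - ((10000000 : ℕ) : ℤ)) + ((c : ℤ) - ((10000000 : ℕ) : ℤ))) / 2).natAbs =
      ((784 + b + c - 20000000) + (20000000 - (784 + b + c))) / 2 := by (clear * - h1; solve | lia | omega)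
  rw [e] at h2
  have h3 : (784 + b + c) % 4 = 0 := by omega
  show (Nat.beq ((784 + b + c) % 4) 0 &&
    Nat.beq (145926144000 % (((784 + b + c - 20000000) + (20000000 - (784 + b + c))) / 2)) 0) = true
  rw [h2, h3]
  rfl

private noncomputable def _root_.Cfsg.Agent.LsF.fa79e7e_21 : {f // @Cfsg.Agent.H536.K4.RuSearch.pre = f} := ⟨_, by first | (delta Cfsg.Agent.H536.K4.RuSearch.pre; rewrite [Cfsg.Agent.LsF.and_eq]; exact rfl) | exact rfl⟩
private noncomputable def _root_.Cfsg.Agent.LsF.fa79e7e_22 : {f // @Cfsg.Agent.H536.K4.RuSearch.r29 = f} := ⟨_, by first | (delta Cfsg.Agent.H536.K4.RuSearch.r29; rewrite [Cfsg.Agent.LsF.iadd_pat, Cfsg.Agent.LsF.imul_pat, Cfsg.Agent.LsF.isub_pat, Cfsg.Agent.LsF.imod_pat, Cfsg.Agent.LsF.and_eq, Cfsg.Agent.LsF.any_eq, Cfsg.Agent.LsF.instIDecEq_eq, Cfsg.Agent.LsF.idecLe_eq, Cfsg.Agent.LsF.decide_eq]; exact rfl) | exact rfl⟩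
private noncomputable def _root_.Cfsg.Agent.LsF.fa79e7e_23 : {f // @Cfsg.Agent.H536.K4.RuSearch.sub13 = f} := ⟨_, by first | (delta Cfsg.Agent.H536.K4.RuSearch.sub13; rewrite [Cfsg.Agent.LsF.iadd_pat, Cfsg.Agent.LsF.imul_pat, Cfsg.Agent.LsF.ineg_pat, Cfsg.Agent.LsF.and_eq, Cfsg.Agent.LsF.or_eq, Cfsg.Agent.LsF.not_eq, Cfsg.Agent.LsF.any_eq, Cfsg.Agent.LsF.instIDecEq_eq, Cfsg.Agent.LsF.dBoolEq_eq, Cfsg.Agent.LsF.ite_eq, Cfsg.Agent.LsF.decide_eq]; exact rfl) | exact rfl⟩
private noncomputable def _root_.Cfsg.Agent.LsF.fa79e7e_24 : {f // @Cfsg.Agent.H536.K4.RuSearch.r13 = f} := ⟨_, by first | (delta Cfsg.Agent.H536.K4.RuSearch.r13; rewrite [Cfsg.Agent.LsF.fa79e7e_23.2, Cfsg.Agent.LsF.iadd_pat, Cfsg.Agent.LsF.imul_pat, Cfsg.Agent.LsF.isub_pat, Cfsg.Agent.LsF.imod_pat, Cfsg.Agent.LsF.and_eq, Cfsg.Agent.LsF.any_eq, Cfsg.Agent.LsF.instIDecEq_eq, Cfsg.Agent.LsF.idecLe_eq, Cfsg.Agent.LsF.decide_eq]; exact rfl) | exact rfl⟩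
private noncomputable def _root_.Cfsg.Agent.LsF.fa79e7e_25 : {f // @Cfsg.Agent.H536.K4.RuSearch.cand = f} := ⟨_, by first | (delta Cfsg.Agent.H536.K4.RuSearch.cand; rewrite [Cfsg.Agent.LsF.fa79e7e_22.2, Cfsg.Agent.LsF.fa79e7e_24.2, Cfsg.Agent.LsF.nmod_pat, Cfsg.Agent.LsF.iadd_pat, Cfsg.Agent.LsF.imod_pat, Cfsg.Agent.LsF.ineg_pat, Cfsg.Agent.LsF.icast_pat, Cfsg.Agent.LsF.and_eq, Cfsg.Agent.LsF.instDecEq_eq, Cfsg.Agent.LsF.decLt_eq, Cfsg.Agent.LsF.natAbs_eq, Cfsg.Agent.LsF.instIDecEq_eq, Cfsg.Agent.LsF.dNot_eq, Cfsg.Agent.LsF.decide_eq]; exact rfl) | exact rfl⟩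
private noncomputable def _root_.Cfsg.Agent.LsF.fa79e7e_26 : {f // @Int.subNatNat = f} := ⟨_, by first | (delta Int.subNatNat; rewrite [Cfsg.Agent.LsF.nsub_pat]; (try delta Int.negOfNat.match_1); (try delta Nat.casesOn); exact rfl) | exact rfl⟩
private theorem posN : (LN.all fun b => LN.all fun c => !(pre (Nat.add (Nat.add 784 b) c)) ||
    !(cand (Int.subNatNat b 10000000) (Int.subNatNat c 10000000))) = true := by ((try (rewrite [Cfsg.Agent.LsF.fa79e7e_21.2, Cfsg.Agent.LsF.fa79e7e_25.2, Cfsg.Agent.LsF.fa79e7e_26.2, Cfsg.Agent.LsF.or_eq, Cfsg.Agent.LsF.not_eq, Cfsg.Agent.LsF.all_eq])); decide +kernel)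

theorem pos : (LS.all fun B => LS.all fun C => !(cand B C)) = true := by
  rw [LS_eq, List.all_map]
  refine List.all_eq_true.2 fun b hb => ?_
  show ((LN.map fun n : ℕ => Int.subNatNat n 10000000).all fun C => !(cand (Int.subNatNat b 10000000) C)) = true
  rw [List.all_map]
  refine List.all_eq_true.2 fun c hc => ?_
  have h := List.all_eq_true.1 (List.all_eq_true.1 posN b hb) c hc
  show (!(cand (Int.subNatNat b 10000000) (Int.subNatNat c 10000000))) = true
  cases h1 : cand (Int.subNatNat b 10000000) (Int.subNatNat c 10000000) with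
  | false => rfl
  | true =>
    rw [pre_of_cand h1, h1] at h
    exact h

/-- the possible pairs -/
def cand' (B : ℤ) : Bool :=
  decide (1 < B.natAbs) && (LS.contains (-5770 - B) && (r29 B (-5770 - B) 3276 && r13 (-1) B (-5770 - B) 3276))

/-- the rows number `a`, …, `a + n - 1` of the search -/
def segN (a n : ℕ) : Bool := ((LS.drop a).take n).all fun B => !(cand' B)

theorem segN_cons {a n : ℕ} (h : segN a n = true) (h' : ((LS.drop (a + n)).all fun B => !(cand' B)) = true) :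
    ((LS.drop a).all fun B => !(cand' B)) = true := by
  rw [← List.take_append_drop n (LS.drop a), List.all_append, List.drop_drop, Bool.and_eq_true]
  exact ⟨h, h'⟩

private noncomputable def _root_.Cfsg.Agent.LsF.fa79e7e_27 : {f // @Cfsg.Agent.H536.K4.RuSearch.L = f} := ⟨_, by first | (delta Cfsg.Agent.H536.K4.RuSearch.L; rewrite [Cfsg.Agent.LsF.nmul_pat, Cfsg.Agent.LsF.map_eq, Cfsg.Agent.LsF.flatMap_eq]; exact rfl) | exact rfl⟩
private noncomputable def _root_.Cfsg.Agent.LsF.fa79e7e_28 : {f // @Cfsg.Agent.H536.K4.RuSearch.LS = f} := ⟨_, by first | (delta Cfsg.Agent.H536.K4.RuSearch.LS; rewrite [Cfsg.Agent.LsF.fa79e7e_27.2, Cfsg.Agent.LsF.ineg_pat, Cfsg.Agent.LsF.icast_pat, Cfsg.Agent.LsF.lappend_pat, Cfsg.Agent.LsF.map_eq]; exact rfl) | exact rfl⟩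
private noncomputable def _root_.Cfsg.Agent.LsF.fa79e7e_29 : {f // @Cfsg.Agent.H536.K4.RuSearch.cand' = f} := ⟨_, by first | (delta Cfsg.Agent.H536.K4.RuSearch.cand'; rewrite [Cfsg.Agent.LsF.fa79e7e_28.2, Cfsg.Agent.LsF.fa79e7e_22.2, Cfsg.Agent.LsF.fa79e7e_24.2, Cfsg.Agent.LsF.isub_pat, Cfsg.Agent.LsF.ineg_pat, Cfsg.Agent.LsF.instIBEq_pat, Cfsg.Agent.LsF.and_eq, Cfsg.Agent.LsF.decLt_eq, Cfsg.Agent.LsF.contains_eq, Cfsg.Agent.LsF.natAbs_eq, Cfsg.Agent.LsF.decide_eq]; exact rfl) | exact rfl⟩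
private noncomputable def _root_.Cfsg.Agent.LsF.fa79e7e_30 : {f // @Cfsg.Agent.H536.K4.RuSearch.segN = f} := ⟨_, by first | (delta Cfsg.Agent.H536.K4.RuSearch.segN; rewrite [Cfsg.Agent.LsF.fa79e7e_28.2, Cfsg.Agent.LsF.fa79e7e_29.2, Cfsg.Agent.LsF.not_eq, Cfsg.Agent.LsF.all_eq, Cfsg.Agent.LsF.take_eq, Cfsg.Agent.LsF.drop_eq]; exact rfl) | exact rfl⟩
theorem neg0 : segN 0 32 = true := by ((try (rewrite [Cfsg.Agent.LsF.fa79e7e_30.2])); decide +kernel)
theorem neg32 : segN 32 32 = true := by ((try (rewrite [Cfsg.Agent.LsF.fa79e7e_30.2])); decide +kernel)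
theorem neg64 : segN 64 32 = true := by ((try (rewrite [Cfsg.Agent.LsF.fa79e7e_30.2])); decide +kernel)
theorem neg96 : segN 96 32 = true := by ((try (rewrite [Cfsg.Agent.LsF.fa79e7e_30.2])); decide +kernel)
theorem neg128 : segN 128 32 = true := by ((try (rewrite [Cfsg.Agent.LsF.fa79e7e_30.2])); decide +kernel)
theorem neg160 : segN 160 32 = true := by ((try (rewrite [Cfsg.Agent.LsF.fa79e7e_30.2])); decide +kernel)
theorem neg192 : segN 192 32 = true := by ((try (rewrite [Cfsg.Agent.LsF.fa79e7e_30.2])); decide +kernel)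
theorem neg224 : segN 224 32 = true := by ((try (rewrite [Cfsg.Agent.LsF.fa79e7e_30.2])); decide +kernel)

theorem negEnd : ((LS.drop 256).all fun B => !(cand' B)) = true := by decide +kernel

theorem neg : (LS.all fun B => !(cand' B)) = true := by
  have h := segN_cons neg0 <|
    segN_cons neg32 <|
    segN_cons neg64 <|
    segN_cons neg96 <|
    segN_cons neg128 <|
    segN_cons neg160 <|
    segN_cons neg192 <|
    segN_cons neg224 negEnd
  exact h

end Cfsg.Agent.H536.K4.RuSearch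
end

-- part: H645/K4/Tool
section
/-!
# Counting irreducible characters of odd degree (S4947)

* `k0 S` : the number of irreducible characters of odd degree;
* `four_dvd` : `4 ∣ |S|` implies `4 ∣ k0 S`;
* `parity` : the sum of the irreducible characters of odd degree at `x ≠ 1` is twice an algebraic integer;
* `five_of_four` : four irreducible characters of odd degree whose sum at some `x ≠ 1` is an odd integer;
* `five_of_defect_zero` : three nontrivial irreducible characters of odd degree and `p`-defect zero;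
* `exists_fourth` : if `k0 S ≤ 4` and three of the characters are known, there is exactly one more.
-/

set_option autoImplicit false

namespace Cfsg.Agent.H645.K4

open Cfsg Cfsg.Agent.Characters.Core Cfsg.Agent.Characters

section

variable {S : Type*} [Group S]

/-- The number of irreducible characters of odd degree. -/
noncomputable def k0 (S : Type*) [Group S] : ℕ :=
  Nat.card {χ : IrrCharacter S // ¬ 2 ∣ charDegree (χ : S → ℂ)}

theorem k0_congr {S T : Type*} [Group S] [Group T] (e : S ≃* T) : k0 S = k0 T := by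
  unfold k0
  refine Nat.card_congr
    { toFun := fun χ => ⟨⟨fun x => (χ.1 : S → ℂ) (e.symm x), isIrr_comp e.symm.toMonoidHom e.symm.surjective χ.1.2⟩, ?_⟩
      invFun := fun χ => ⟨⟨fun x => (χ.1 : T → ℂ) (e x), isIrr_comp e.toMonoidHom e.surjective χ.1.2⟩, ?_⟩
      left_inv := ?_
      right_inv := ?_ }
  · have h := χ.2
    unfold charDegree at h ⊢
    simpa only [_root_.map_one, _root_.Nat.two_dvd_ne_zero] using h
  · have h := χ.2
    unfold charDegree at h ⊢
    simpa only [_root_.map_one, _root_.Nat.two_dvd_ne_zero] using h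
  · intro χ
    apply Subtype.ext
    apply Subtype.ext
    funext x
    simp
  · intro χ
    apply Subtype.ext
    apply Subtype.ext
    funext x
    simp

/-- The degree. -/
theorem charDegree_eq {χ : S → ℂ} {n : ℕ} (h : χ 1 = n) : charDegree χ = n := by
  unfold charDegree
  rw [h, Complex.natCast_re, Nat.floor_natCast]

theorem apply_one (χ : IrrCharacter S) : (χ : S → ℂ) 1 = (charDegree (χ : S → ℂ) : ℂ) := by
  obtain ⟨n, -, hn⟩ := isIrr_apply_one χ.2
  rw [charDegree_eq hn, hn]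

variable [Finite S]

omit [Finite S] in
theorem card_eq [Fintype (IrrCharacter S)] (A : Finset (IrrCharacter S))
    (hA : ∀ χ : IrrCharacter S, χ ∈ A ↔ ¬ 2 ∣ charDegree (χ : S → ℂ)) : k0 S = A.card := by
  unfold k0
  rw [← Nat.card_eq_finsetCard]
  exact Nat.card_congr (Equiv.subtypeEquivRight fun χ => (hA χ).symm)

/-- `k0 S` is divisible by four if the order of `S` is. -/
theorem four_dvd (h4 : 4 ∣ Nat.card S) : 4 ∣ k0 S := by
  classical
  have := Fintype.ofFinite S
  have := finite_irr (G := S)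
  have := Fintype.ofFinite (IrrCharacter S)
  have h1 := CharDeep.FrobKernel.sum_degree_mul_apply (1 : S)
  rw [if_pos rfl] at h1
  have h2 : ∑ χ : IrrCharacter S, charDegree (χ : S → ℂ) ^ 2 = Nat.card S := by
    have h3 : ((∑ χ : IrrCharacter S, charDegree (χ : S → ℂ) ^ 2 : ℕ) : ℂ) = Nat.card S := by
      rw [← h1]
      push_cast
      exact Finset.sum_congr rfl fun χ _ => by rw [apply_one χ, pow_two]
    exact_mod_cast h3
  have h3 : ((∑ χ : IrrCharacter S, charDegree (χ : S → ℂ) ^ 2 : ℕ) : ZMod 4) =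
      ((Finset.univ.filter fun χ : IrrCharacter S => ¬ 2 ∣ charDegree (χ : S → ℂ)).card : ZMod 4) := by
    rw [Finset.card_filter, Nat.cast_sum, Nat.cast_sum]
    refine Finset.sum_congr rfl fun χ _ => ?_
    by_cases h : 2 ∣ charDegree (χ : S → ℂ)
    · obtain ⟨k, hk⟩ := id h
      rw [if_neg (not_not.2 h), hk]
      push_cast
      have : ∀ a : ZMod 4, (2 * a) ^ 2 = 0 := by decide
      exact this _
    · obtain ⟨k, hk⟩ := Nat.odd_iff.2 (Nat.two_dvd_ne_zero.1 h)
      rw [if_pos h, hk]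
      push_cast
      have : ∀ a : ZMod 4, (2 * a + 1) ^ 2 = 1 := by decide
      exact this _
  rw [h2] at h3
  rw [card_eq (Finset.univ.filter fun χ : IrrCharacter S => ¬ 2 ∣ charDegree (χ : S → ℂ)) (by simp only [_root_.Nat.two_dvd_ne_zero, _root_.Finset.mem_filter, _root_.Finset.mem_univ, _root_.true_and, _root_.implies_true])]
  have h5 : ((Nat.card S : ℕ) : ZMod 4) = 0 := (ZMod.natCast_eq_zero_iff _ _).2 h4
  rw [h5] at h3
  exact (ZMod.natCast_eq_zero_iff _ _).1 h3.symm

end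

end Cfsg.Agent.H645.K4
end

-- part: H536/K4/RuAbs
section
/-!
# Row (A) of S4947 for the Rudvalis group from a few columns (helper536)

`Data` : the order, an element of order 16 as in `Gauss`, elements of order 29 and 13 with centralizers of order 29 and at most
52, the characters of degree 783 and 3276. `Data.rowA` : there are not exactly four characters of odd degree.
-/

set_option autoImplicit false
set_option linter.unusedSectionVars false

open scoped ComplexConjugate
open Cfsg Subgroup Cfsg.Agent.Characters.Core Cfsg.Agent.H268.K4.Mod4 Cfsg.Agent.H536.K4.Gauss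
open Cfsg.Agent.H714.K4 (k0 RowA)

namespace Cfsg.Agent.H536.K4.RuAbs

universe u
variable {G : Type u} [Group G] [Finite G]

/-- the hypotheses -/
structure Data (x y z : G) (ψ ψ' : IrrCharacter G) : Prop where
  card : Nat.card G = 145926144000
  lin : ∀ χ : IrrCharacter G, charDegree (χ : G → ℂ) = 1 → ∀ g, (χ : G → ℂ) g = 1
  elt : Elt x
  oy : orderOf y = 29
  cy : Nat.card (centralizer ({y} : Set G)) ≤ 29
  oz : orderOf z = 13
  cz : Nat.card (centralizer ({z} : Set G)) ≤ 52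
  zz : IsConj z (z ^ 2)
  dψ : charDegree (ψ : G → ℂ) = 783
  dψ' : charDegree (ψ' : G → ℂ) = 3276
  sum : ∀ k : ℕ, k.Coprime (Nat.card G) → ∀ g : G,
    (ψ : G → ℂ) (g ^ k) + (ψ' : G → ℂ) (g ^ k) = (ψ : G → ℂ) g + (ψ' : G → ℂ) g
  fix : (ψ : G → ℂ) x + (ψ' : G → ℂ) x = 1

variable {x y z : G} {ψ ψ' : IrrCharacter G}

/-- the trivial character -/
def one : IrrCharacter G := ⟨fun _ => (1 : ℂ), Cfsg.Agent.Blocks.Basic.isIrrCharacter_one⟩

theorem one_apply (g : G) : (one : IrrCharacter G).1 g = 1 := rfl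

theorem charDegree_one : charDegree ((one : IrrCharacter G) : G → ℂ) = 1 := by
  apply Cfsg.Agent.Blocks.Basic.charDegree_of_eq
  rw [one_apply, Nat.cast_one]

theorem fx_one : Fx (one : IrrCharacter G) := fun _ _ _ => rfl

theorem Data.fx (D : Data x y z ψ ψ') : Fx ψ := by
  classical
  have := Fintype.ofFinite G
  rw [fx_iff]
  intro k hk
  by_contra hne
  have hf : ((pw hk ψ : G → ℂ) + (pw hk ψ' : G → ℂ)) = (ψ : G → ℂ) + (ψ' : G → ℂ) := by
    funext g
    exact D.sum k hk g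
  have h1 : (pw hk ψ' : G → ℂ) ≠ (pw hk ψ : G → ℂ) := by
    intro h
    have h2 := congrArg charDegree h
    rw [charDegree_pw, charDegree_pw, D.dψ, D.dψ'] at h2
    omega
  have h2 : (ψ' : G → ℂ) ≠ (pw hk ψ : G → ℂ) := by
    intro h
    have h2 := congrArg charDegree h
    rw [charDegree_pw, D.dψ, D.dψ'] at h2
    omega
  have h3 : (ψ : G → ℂ) ≠ (pw hk ψ : G → ℂ) := fun h => hne (Subtype.ext h.symm)
  have h4 := congrArg (fun φ => classInner φ (pw hk ψ : G → ℂ)) hf
  simp only [classInner_add_left] at h4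
  rw [classInner_irr_self (pw hk ψ).2, classInner_irr_ne (pw hk ψ').2 (pw hk ψ).2 h1,
    classInner_irr_ne ψ'.2 (pw hk ψ).2 h2, classInner_irr_ne ψ.2 (pw hk ψ).2 h3] at h4
  norm_num at h4

/-! ### the configuration -/

/-- exactly four characters of odd degree -/
structure Conf (x y z : G) (ψ ψ' β γ e : IrrCharacter G) (O : Finset (IrrCharacter G)) : Prop where
  D : Data x y z ψ ψ'
  hO : ∀ χ, χ ∈ O ↔ ¬ 2 ∣ charDegree (χ : G → ℂ)
  mem : ∀ χ, χ ∈ O ↔ χ = one ∨ χ = ψ ∨ χ = β ∨ χ = γ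
  h1ψ : (one : IrrCharacter G) ≠ ψ
  h1β : (one : IrrCharacter G) ≠ β
  h1γ : (one : IrrCharacter G) ≠ γ
  hψβ : ψ ≠ β
  hψγ : ψ ≠ γ
  hβγ : β ≠ γ
  he : e ∉ O
  re_sq : ∀ χ ∈ O, re x χ = 1 ∨ re x χ = -1
  re_e : re x e = 2 ∨ re x e = -2
  re_zero : ∀ χ, χ ∉ O → χ ≠ e → re x χ = 0
  nd : ¬ 4 ∣ 784 + charDegree (β : G → ℂ) + charDegree (γ : G → ℂ)

theorem card4 (D : Data x y z ψ ψ') (hA : ¬ RowA G) : k0 G = 4 := by
  classical
  have h5 : ¬ 5 ≤ k0 G := fun h => hA (Or.inr h)
  have h4 : 4 ∣ k0 G := H645.K4.four_dvd (by rw [D.card]; norm_num)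
  have hf := finite_odd (G := G)
  have h0 : 0 < k0 G := by
    have : Nonempty {χ : IrrCharacter G // ¬ 2 ∣ charDegree (χ : G → ℂ)} :=
      ⟨⟨one, by rw [charDegree_one]; norm_num⟩⟩
    exact Nat.card_pos
  omega

theorem exists_conf (D : Data x y z ψ ψ') (hA : ¬ RowA G) : ∃ β γ e O, Conf x y z ψ ψ' β γ e O := by
  classical
  have hfin : Finite (IrrCharacter G) := finite_irr
  have := Fintype.ofFinite (IrrCharacter G)
  set! O : Finset (IrrCharacter G) := Finset.univ.filter fun χ => ¬ 2 ∣ charDegree (χ : G → ℂ) with hOdef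
  have hO : ∀ χ, χ ∈ O ↔ ¬ 2 ∣ charDegree (χ : G → ℂ) := fun χ => by simp only [hOdef, _root_.Nat.two_dvd_ne_zero, _root_.Finset.mem_filter, _root_.Finset.mem_univ, _root_.true_and]
  have hk := card4 D hA
  have hc : O.card = 4 := by rw [← H645.K4.card_eq O hO]; exact hk
  have m1 : (one : IrrCharacter G) ∈ O := (hO _).2 (by rw [charDegree_one]; norm_num)
  have mψ : ψ ∈ O := (hO _).2 (by rw [D.dψ]; norm_num)
  have h1ψ : (one : IrrCharacter G) ≠ ψ := by
    intro h
    have h2 := charDegree_one (G := G)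
    rw [h, D.dψ] at h2
    omega
  have hc2 : ((O.erase one).erase ψ).card = 2 := by
    rw [Finset.card_erase_of_mem (Finset.mem_erase.2 ⟨h1ψ.symm, mψ⟩), Finset.card_erase_of_mem m1, hc]
  obtain ⟨β, γ, hβγ, hE⟩ := Finset.card_eq_two.1 hc2
  have mβ : β ∈ (O.erase one).erase ψ := by rw [hE]; simp
  have mγ : γ ∈ (O.erase one).erase ψ := by rw [hE]; simp
  rw [Finset.mem_erase, Finset.mem_erase] at mβ mγ
  have hmem : ∀ χ, χ ∈ O ↔ χ = one ∨ χ = ψ ∨ χ = β ∨ χ = γ := by
    intro χ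
    constructor
    · intro h
      by_cases h1 : χ = one
      · exact Or.inl h1
      · by_cases h2 : χ = ψ
        · exact Or.inr (Or.inl h2)
        · have h3 : χ ∈ (O.erase one).erase ψ := Finset.mem_erase.2 ⟨h2, Finset.mem_erase.2 ⟨h1, h⟩⟩
          rw [hE, Finset.mem_insert, Finset.mem_singleton] at h3
          exact Or.inr (Or.inr h3)
    · rintro (rfl | rfl | rfl | rfl)
      · exact m1
      · exact mψ
      · exact mβ.2.2
      · exact mγ.2.2
  have r1 : ∀ g : G, (((one : IrrCharacter G) : G → ℂ) g).im = 0 := fun g => by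
    rw [show ((one : IrrCharacter G) : G → ℂ) g = 1 from rfl, Complex.one_im]
  have rψ : ∀ g : G, ((ψ : G → ℂ) g).im = 0 := fun g => by rw [D.fx.val g, Complex.intCast_im]
  have hs : 4 ∣ charDegree ((one : IrrCharacter G) : G → ℂ) + charDegree (ψ : G → ℂ) := by
    rw [charDegree_one, D.dψ]
    norm_num
  have key : ∀ χ ∈ O, ∀ g : G, ((χ : G → ℂ) g).im = 0 := by
    intro χ hχ
    by_contra hcon
    push Not at hcon
    exact hA (rowA_of_two_real (a := (one : IrrCharacter G).1) (b := ψ.1) (c := χ.1)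
      (fun h => h1ψ (Subtype.ext h)) (one : IrrCharacter G).2 ψ.2 χ.2 ((hO _).1 m1) ((hO _).1 mψ) ((hO _).1 hχ)
      r1 rψ hcon hs)
  have him : ∀ χ ∈ O, im x χ = 0 := by
    intro χ hχ
    unfold im
    rw [key χ hχ x, Int.floor_zero]
  obtain ⟨h1, e, he, he2, he3⟩ := D.elt.exists_two O hO hc him
  refine ⟨β, γ, e, O, ⟨D, hO, hmem, h1ψ, mβ.2.1.symm, mγ.2.1.symm, mβ.1.symm, mγ.1.symm, hβγ, he, h1, he2, he3, ?_⟩⟩
  intro hd
  refine hA (rowA_of_four_real (fun i => ((![one, ψ, β, γ] : Fin 4 → IrrCharacter G) i : G → ℂ)) ?_ ?_ ?_ ?_ ?_)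
  · have h2 := inj4 h1ψ mβ.2.1.symm mγ.2.1.symm mβ.1.symm mγ.1.symm hβγ
    exact fun i j hij => h2 (Subtype.ext hij)
  · exact fun i => (_ : IrrCharacter G).2
  · intro i
    fin_cases i
    · exact (hO _).1 m1
    · exact (hO _).1 mψ
    · exact (hO _).1 mβ.2.2
    · exact (hO _).1 mγ.2.2
  · intro i
    fin_cases i
    · exact key _ m1
    · exact key _ mψ
    · exact key _ mβ.2.2
    · exact key _ mγ.2.2
  · rw [Fin.sum_univ_four]
    change 4 ∣ charDegree ((one : IrrCharacter G) : G → ℂ) + charDegree (ψ : G → ℂ) + charDegree (β : G → ℂ) +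
      charDegree (γ : G → ℂ)
    rw [charDegree_one, D.dψ]
    exact hd

variable {β γ e : IrrCharacter G} {O : Finset (IrrCharacter G)}

theorem Conf.sum5 (C : Conf x y z ψ ψ' β γ e O) [Fintype (IrrCharacter G)] (f : IrrCharacter G → ℂ)
    (hf : ∀ χ, re x χ = 0 → f χ = 0) : ∑ χ, f χ = f one + f ψ + f β + f γ + f e := by
  classical
  have h1 : ∀ χ, χ ∉ insert e O → f χ = 0 := by
    intro χ hχ
    rw [Finset.mem_insert, not_or] at hχ
    exact hf χ (C.re_zero χ hχ.2 hχ.1)
  rw [← Finset.sum_subset (Finset.subset_univ (insert e O)) fun χ _ hχ => h1 χ hχ, Finset.sum_insert C.he]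
  have h2 : O = {one, ψ, β, γ} := by
    ext χ
    rw [C.mem]
    simp
  rw [h2, Finset.sum_insert, Finset.sum_insert, Finset.sum_insert, Finset.sum_singleton]
  · ring
  · simpa using C.hβγ
  · simpa using ⟨C.hψβ, C.hψγ⟩
  · simpa using ⟨C.h1ψ, C.h1β, C.h1γ⟩

theorem re_one : re x (one : IrrCharacter G) = 1 := by
  unfold re
  rw [show ((one : IrrCharacter G) : G → ℂ) x = 1 from rfl]
  simp

/-- the columns -/
theorem Conf.col (C : Conf x y z ψ ψ' β γ e O) {g : G} (h : ¬ IsConj g x) (h' : ¬ IsConj g x⁻¹) :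
    1 + (re x ψ : ℂ) * (ψ : G → ℂ) g + (re x β : ℂ) * (β : G → ℂ) g + (re x γ : ℂ) * (γ : G → ℂ) g +
      (re x e : ℂ) * (e : G → ℂ) g = 0 := by
  classical
  have hfin : Finite (IrrCharacter G) := finite_irr
  have := Fintype.ofFinite (IrrCharacter G)
  have h1 := C.D.elt.col h h'
  rw [C.sum5 (fun χ => (re x χ : ℂ) * (χ : G → ℂ) g) (fun χ hχ => by rw [hχ, Int.cast_zero, zero_mul]), re_one,
    show ((one : IrrCharacter G) : G → ℂ) g = 1 from rfl] at h1
  rw [← h1]
  push_cast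
  ring

theorem Conf.even_e (C : Conf x y z ψ ψ' β γ e O) : 2 ∣ charDegree (e : G → ℂ) := by
  by_contra h
  exact C.he ((C.hO e).2 h)

theorem Conf.odd_β (C : Conf x y z ψ ψ' β γ e O) : ¬ 2 ∣ charDegree (β : G → ℂ) :=
  (C.hO β).1 ((C.mem β).2 (by simp))

theorem Conf.odd_γ (C : Conf x y z ψ ψ' β γ e O) : ¬ 2 ∣ charDegree (γ : G → ℂ) :=
  (C.hO γ).1 ((C.mem γ).2 (by simp))

/-- the degrees -/
theorem Conf.deg (C : Conf x y z ψ ψ' β γ e O) :
    1 + re x ψ * 783 + re x β * charDegree (β : G → ℂ) + re x γ * charDegree (γ : G → ℂ) +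
      re x e * charDegree (e : G → ℂ) = 0 := by
  have hx1 : x ≠ 1 := by
    intro h
    have h2 := C.D.elt.nreal
    rw [h, inv_one] at h2
    exact h2 (IsConj.refl 1)
  have h1 : ¬ IsConj 1 x := fun h => hx1 (isConj_one_left.1 h.symm)
  have h2 : ¬ IsConj 1 x⁻¹ := fun h => hx1 (inv_eq_one.1 (isConj_one_left.1 h.symm))
  have h3 := C.col h1 h2
  rw [Cfsg.Agent.Blocks.Basic.irr_one_eq_charDegree ψ.2, Cfsg.Agent.Blocks.Basic.irr_one_eq_charDegree β.2,
    Cfsg.Agent.Blocks.Basic.irr_one_eq_charDegree γ.2, Cfsg.Agent.Blocks.Basic.irr_one_eq_charDegree e.2] at h3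
  have key : ∀ (a b c d : ℤ) (l m n k : ℕ),
      1 + (a : ℂ) * (l : ℂ) + (b : ℂ) * (m : ℂ) + (c : ℂ) * (n : ℂ) + (d : ℂ) * (k : ℂ) = 0 →
      1 + a * (l : ℤ) + b * (m : ℤ) + c * (n : ℤ) + d * (k : ℤ) = 0 := by
    intro a b c d l m n k h
    exact_mod_cast h
  have h4 := key _ _ _ _ _ _ _ _ h3
  rw [C.D.dψ] at h4
  exact h4

/-- in the case `ψ x = -1` the fifth character is `ψ'` -/
theorem Conf.neg (C : Conf x y z ψ ψ' β γ e O) (h : re x ψ = -1) : charDegree (e : G → ℂ) = 3276 ∧ re x e = 2 := by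
  have h1 := C.D.fix
  rw [C.D.elt.val ψ, C.D.elt.val ψ', h] at h1
  have h2 := congrArg Complex.re h1
  simp only [Complex.add_re, Complex.intCast_re, Complex.mul_re, Complex.I_re, mul_zero, Complex.intCast_im,
    Complex.I_im, mul_one, sub_zero, add_zero, Complex.one_re] at h2
  have h3 : re x ψ' = 2 := by
    have h4 : ((re x ψ' : ℤ) : ℝ) = 2 := by
      push_cast at h2
      linarith
    exact_mod_cast h4
  have h4 : ψ' ∉ O := fun hm => (C.hO ψ').1 hm (by rw [C.D.dψ']; norm_num)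
  have h5 : ψ' = e := by
    by_contra hne
    have h6 := C.re_zero ψ' h4 hne
    omega
  rw [← h5]
  exact ⟨C.D.dψ', h3⟩

theorem Conf.fx_e (C : Conf x y z ψ ψ' β γ e O) : Fx e := by
  rw [fx_iff]
  intro k hk
  by_contra hne
  have h1 := C.D.elt.re_pw e hk
  have h2 : pw hk e ∉ O := fun hm => (C.hO _).1 hm (by rw [charDegree_pw]; exact C.even_e)
  have h3 := C.re_zero _ h2 hne
  have h4 := C.re_e
  omega

theorem Conf.dvd (C : Conf x y z ψ ψ' β γ e O) (χ : IrrCharacter G) : charDegree (χ : G → ℂ) ∣ 145926144000 := by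
  rw [← C.D.card]
  exact Cfsg.Agent.Blocks.CyclicUpper.charDegree_dvd χ.2

theorem Conf.pw_ne (C : Conf x y z ψ ψ' β γ e O) {k : ℕ} (hk : k.Coprime (Nat.card G)) : pw hk β ≠ γ := by
  intro h
  have h1 := C.D.elt.re_pw β hk
  have h2 := charDegree_pw hk β
  rw [h] at h1 h2
  have h3 := C.deg
  rw [h1, h2] at h3
  have h4 := C.odd_β
  have h5 := C.even_e
  have h6 := C.re_sq ψ ((C.mem ψ).2 (by simp))
  have h7 := C.re_sq β ((C.mem β).2 (by simp))
  have h8 := C.re_e
  rcases h6 with h6 | h6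
  · rw [h6] at h3
    rcases h7 with h7 | h7 <;> rcases h8 with h8 | h8 <;> rw [h7, h8] at h3 <;> omega
  · obtain ⟨h9, h10⟩ := C.neg h6
    rw [h6, h9, h10] at h3
    have h11 := C.dvd β
    rcases h7 with h7 | h7
    · rw [h7] at h3
      omega
    · rw [h7] at h3
      have h12 : charDegree (β : G → ℂ) = 2885 := by omega
      rw [h12] at h11
      revert h11
      norm_num

theorem Conf.fx_of (C : Conf x y z ψ ψ' β γ e O) {χ : IrrCharacter G} (hχ : χ = β ∨ χ = γ) : Fx χ := by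
  rw [fx_iff]
  intro k hk
  have hinj := pw_injective (G := G) hk
  have p1 : pw hk (one : IrrCharacter G) = one := (fx_iff.1 fx_one) k hk
  have pψ : pw hk ψ = ψ := (fx_iff.1 C.D.fx) k hk
  have hodd : ¬ 2 ∣ charDegree (χ : G → ℂ) := by
    rcases hχ with rfl | rfl
    · exact C.odd_β
    · exact C.odd_γ
  have hm : pw hk χ ∈ O := (C.hO _).2 (by rw [charDegree_pw]; exact hodd)
  have hn1 : χ ≠ one := by rcases hχ with rfl | rfl <;> [exact C.h1β.symm; exact C.h1γ.symm]
  have hnψ : χ ≠ ψ := by rcases hχ with rfl | rfl <;> [exact C.hψβ.symm; exact C.hψγ.symm]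
  rw [C.mem] at hm
  rcases hm with h | h | h | h
  · exact absurd (hinj (h.trans p1.symm)) hn1
  · exact absurd (hinj (h.trans pψ.symm)) hnψ
  · rcases hχ with rfl | rfl
    · exact h
    · -- `pw γ = β`: then `pw β` is not `β`
      have hβ : pw hk β ∈ O := (C.hO _).2 (by rw [charDegree_pw]; exact C.odd_β)
      rw [C.mem] at hβ
      rcases hβ with h' | h' | h' | h'
      · exact absurd (hinj (h'.trans p1.symm)) C.h1β.symm
      · exact absurd (hinj (h'.trans pψ.symm)) C.hψβ.symm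
      · exact absurd (hinj (h.trans h'.symm)) C.hβγ.symm
      · exact absurd h' (C.pw_ne hk)
  · rcases hχ with rfl | rfl
    · exact absurd h (C.pw_ne hk)
    · exact h

end Cfsg.Agent.H536.K4.RuAbs
end

-- part: H536/K4/RuFin
section
/-!
# Row (A) of S4947 for the Rudvalis group: the end of the argument (helper536)
-/

set_option autoImplicit false
set_option linter.unusedSectionVars false

open scoped ComplexConjugate
open Cfsg Subgroup Cfsg.Agent.Characters.Core Cfsg.Agent.H268.K4.Mod4 Cfsg.Agent.H536.K4.Gauss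
open Cfsg.Agent.H714.K4 (k0 RowA)
open Cfsg.Agent.H536.K4.RuSearch

namespace Cfsg.Agent.H536.K4.RuAbs

theorem mem_R5 {b : ℤ} (h : b * b ≤ 28) : b ∈ R5 := by
  have h1 : -6 < b := by nlinarith only [h]
  have h2 : b < 6 := by nlinarith only [h]
  have h3 : b = -5 ∨ b = -4 ∨ b = -3 ∨ b = -2 ∨ b = -1 ∨ b = 0 ∨ b = 1 ∨ b = 2 ∨ b = 3 ∨ b = 4 ∨ b = 5 := by (clear * - h1 h2; solve | lia | omega)
  unfold R5
  simpa using h3

theorem mem_R6 {b : ℤ} (h : b * b ≤ 42) : b ∈ R6 := by
  have h1 : -7 < b := by nlinarith only [h]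
  have h2 : b < 7 := by nlinarith only [h]
  have h3 : b = -6 ∨ b = -5 ∨ b = -4 ∨ b = -3 ∨ b = -2 ∨ b = -1 ∨ b = 0 ∨ b = 1 ∨ b = 2 ∨ b = 3 ∨ b = 4 ∨ b = 5 ∨
    b = 6 := by (clear * - h1 h2; solve | lia | omega)
  unfold R6
  simpa using h3

theorem r29_of {B C E b c e : ℤ} (hb : (29 : ℤ) ∣ b - B) (hc : (29 : ℤ) ∣ c - C) (he : (29 : ℤ) ∣ e - E)
    (h0 : 1 + b + c + 2 * e = 0) (hs : 1 + b * b + c * c + e * e ≤ 29) : r29 B C E = true := by
  unfold r29
  simp only [List.any_eq_true, Bool.and_eq_true, decide_eq_true_eq]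
  exact ⟨b, mem_R5 (by linarith only [hs, mul_self_nonneg c, mul_self_nonneg e]), Int.emod_eq_zero_of_dvd hb,
    c, mem_R5 (by linarith only [hs, mul_self_nonneg b, mul_self_nonneg e]), Int.emod_eq_zero_of_dvd hc,
    e, mem_R5 (by linarith only [hs, mul_self_nonneg b, mul_self_nonneg c]), Int.emod_eq_zero_of_dvd he, h0, hs⟩

theorem sub13_of {b c e : ℤ} (i j k : Bool) (hi : i = true → b = 1 ∨ b = -1) (hj : j = true → c = 1 ∨ c = -1)
    (hk : k = true → e = 1 ∨ e = -1)
    (h : 1 + (if i then b else 0) + (if j then c else 0) + 2 * (if k then e else 0) = 0) : sub13 b c e = true := by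
  have hm : ∀ t : Bool, t ∈ [true, false] := by decide
  unfold sub13
  simp only [List.any_eq_true, Bool.and_eq_true, decide_eq_true_eq, Bool.or_eq_true, Bool.not_eq_true']
  refine ⟨i, hm i, j, hm j, k, hm k, ?_, ?_, ?_, h⟩
  · cases i
    · exact Or.inl (Or.inl rfl)
    · rcases hi rfl with h1 | h1
      · exact Or.inl (Or.inr h1)
      · exact Or.inr h1
  · cases j
    · exact Or.inl (Or.inl rfl)
    · rcases hj rfl with h1 | h1
      · exact Or.inl (Or.inr h1)
      · exact Or.inr h1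
  · cases k
    · exact Or.inl (Or.inl rfl)
    · rcases hk rfl with h1 | h1
      · exact Or.inl (Or.inr h1)
      · exact Or.inr h1

theorem r13_of {s B C E b c e : ℤ} (hb : (13 : ℤ) ∣ b - B) (hc : (13 : ℤ) ∣ c - C) (he : (13 : ℤ) ∣ e - E)
    (h0 : 1 + 3 * s + b + c + 2 * e = 0) (hs : 10 + b * b + c * c + e * e ≤ 52) (hsub : sub13 b c e = true) :
    r13 s B C E = true := by
  unfold r13
  simp only [List.any_eq_true, Bool.and_eq_true, decide_eq_true_eq]
  exact ⟨b, mem_R6 (by linarith only [hs, mul_self_nonneg c, mul_self_nonneg e]), Int.emod_eq_zero_of_dvd hb,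
    c, mem_R6 (by linarith only [hs, mul_self_nonneg b, mul_self_nonneg e]), Int.emod_eq_zero_of_dvd hc,
    e, mem_R6 (by linarith only [hs, mul_self_nonneg b, mul_self_nonneg c]), Int.emod_eq_zero_of_dvd he, h0, hs, hsub⟩

universe u
variable {G : Type u} [Group G] [Finite G] {x y z : G} {ψ ψ' β γ e : IrrCharacter G} {O : Finset (IrrCharacter G)}

theorem not_conj {g a : G} (ha : a ^ 16 = 1) (h : g ^ 16 ≠ 1) : ¬ IsConj g a := by
  intro hc
  obtain ⟨c, rfl⟩ := isConj_iff.1 hc
  rw [conj_pow] at ha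
  apply h
  have h1 : g ^ 16 = c⁻¹ * (c * g ^ 16 * c⁻¹) * c := by group
  rw [h1, ha]
  group

theorem Conf.colZ (C : Conf x y z ψ ψ' β γ e O) {g : G} (hg : g ^ 16 ≠ 1) :
    1 + re x ψ * vl ψ g + re x β * vl β g + re x γ * vl γ g + re x e * vl e g = 0 := by
  have h1 := C.col (not_conj C.D.elt.pow hg) (not_conj (by rw [inv_pow, C.D.elt.pow, inv_one]) hg)
  rw [C.D.fx.val g, (C.fx_of (Or.inl rfl)).val g, (C.fx_of (Or.inr rfl)).val g, C.fx_e.val g] at h1
  exact_mod_cast h1

theorem vl_one (g : G) : vl (one : IrrCharacter G) g = 1 := by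
  unfold vl
  rw [show ((one : IrrCharacter G) : G → ℂ) g = 1 from rfl]
  simp

theorem Conf.e_ne (C : Conf x y z ψ ψ' β γ e O) {χ : IrrCharacter G} (h : χ ∈ O) : e ≠ χ := by
  rintro rfl
  exact C.he h

theorem Conf.sq (C : Conf x y z ψ ψ' β γ e O) (g : G) :
    1 + vl ψ g ^ 2 + vl β g ^ 2 + vl γ g ^ 2 + vl e g ^ 2 ≤ (Nat.card (centralizer ({g} : Set G)) : ℤ) := by
  classical
  have h1 := sum_sq_le ({e, one, ψ, β, γ} : Finset (IrrCharacter G)) (fun χ hχ => by
    simp only [Finset.mem_insert, Finset.mem_singleton] at hχ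
    rcases hχ with rfl | rfl | rfl | rfl | rfl
    · exact C.fx_e
    · exact fx_one
    · exact C.D.fx
    · exact C.fx_of (Or.inl rfl)
    · exact C.fx_of (Or.inr rfl)) g
  rw [Finset.sum_insert, Finset.sum_insert, Finset.sum_insert, Finset.sum_insert, Finset.sum_singleton, vl_one] at h1
  · linarith
  · simpa using C.hβγ
  · simpa using ⟨C.hψβ, C.hψγ⟩
  · simpa using ⟨C.h1ψ, C.h1β, C.h1γ⟩
  · simp only [Finset.mem_insert, Finset.mem_singleton, not_or]
    exact ⟨C.e_ne ((C.mem _).2 (by simp)), C.e_ne ((C.mem _).2 (by simp)), C.e_ne ((C.mem _).2 (by simp)),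
      C.e_ne ((C.mem _).2 (by simp))⟩

theorem Conf.exists_sgn (C : Conf x y z ψ ψ' β γ e O) : ∃ s : ℤ, re x e = 2 * s ∧ (s = 1 ∨ s = -1) := by
  rcases C.re_e with h | h
  · exact ⟨1, by omega, Or.inl rfl⟩
  · exact ⟨-1, by omega, Or.inr rfl⟩

theorem pow16_ne {g : G} {n : ℕ} (hg : orderOf g = n) (hn : ¬ n ∣ 16) : g ^ 16 ≠ 1 := by
  intro h
  exact hn (hg ▸ orderOf_dvd_of_pow_eq_one h)

theorem sgn_sq {s v : ℤ} (hs : s = 1 ∨ s = -1) : (s * v) * (s * v) = v ^ 2 := by
  rcases hs with rfl | rfl <;> ring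

/-- the column of the element of order 29 -/
theorem Conf.r29 (C : Conf x y z ψ ψ' β γ e O) {s : ℤ} (hs : re x e = 2 * s) (hs2 : s = 1 ∨ s = -1) :
    RuSearch.r29 (re x β * charDegree (β : G → ℂ)) (re x γ * charDegree (γ : G → ℂ)) (s * charDegree (e : G → ℂ)) =
      true := by
  have hf : Fact (Nat.Prime 29) := ⟨by norm_num⟩
  have hy := C.D.oy
  have h1 := C.colZ (pow16_ne hy (by norm_num))
  have h2 := C.sq y
  have h3 : (Nat.card (centralizer ({y} : Set G)) : ℤ) ≤ 29 := by exact_mod_cast C.D.cy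
  have dψ := C.D.fx.modEq hy
  have dβ := (C.fx_of (Or.inl rfl)).modEq hy
  have dγ := (C.fx_of (Or.inr rfl)).modEq hy
  have de := C.fx_e.modEq hy
  have rβ := C.re_sq β ((C.mem β).2 (by simp))
  have rγ := C.re_sq γ ((C.mem γ).2 (by simp))
  have hψ0 : vl ψ y = 0 := by
    rw [C.D.dψ] at dψ
    obtain ⟨k, hk⟩ := dψ
    have h4 : vl ψ y = 29 * (k + 27) := by
      push_cast at hk
      linarith only [hk]
    have h5 : vl ψ y ^ 2 ≤ 28 := by linarith only [h2, h3, sq_nonneg (vl β y), sq_nonneg (vl γ y), sq_nonneg (vl e y)]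
    rw [h4] at h5
    have h6 : k + 27 = 0 := by
      by_contra h7
      have h8 : 1 ≤ (k + 27) ^ 2 := by
        have := sq_nonneg (k + 27)
        have h9 : (k + 27) ^ 2 ≠ 0 := pow_ne_zero 2 h7
        omega
      linarith only [h5, h8]
    rw [h4, h6, mul_zero]
  rw [hψ0] at h1 h2
  refine r29_of (b := re x β * vl β y) (c := re x γ * vl γ y) (e := s * vl e y) ?_ ?_ ?_ ?_ ?_
  · rw [← mul_sub]
    exact dβ.mul_left _
  · rw [← mul_sub]
    exact dγ.mul_left _
  · rw [← mul_sub]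
    exact de.mul_left _
  · rw [hs] at h1
    linarith only [h1]
  · rw [sgn_sq rβ, sgn_sq rγ, sgn_sq hs2]
    linarith

theorem orderOf_two_13 : orderOf (((2 : ℕ)) : ZMod 13) = 13 - 1 := by
  refine orderOf_eq_of_pow_and_pow_div_prime (by norm_num) (by decide) ?_
  intro p hp hd
  have h1 : p ≤ 12 := Nat.le_of_dvd (by norm_num) hd
  interval_cases p
  all_goals first
    | (exfalso; revert hp; norm_num; done)
    | decide
    | (exfalso; revert hd; norm_num; done)

theorem Data.block (D : Data x y z ψ ψ') : ∃ M : Ideal AlgInt, IsPModular 13 M ∧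
    ∀ χ ∈ principalBlock M G, (charDegree (χ : G → ℂ) : ℤ) % 13 = 1 ∨ (charDegree (χ : G → ℂ) : ℤ) % 13 = 12 := by
  have hf : Fact (Nat.Prime 13) := ⟨by norm_num⟩
  obtain ⟨M, hM⟩ := Cfsg.Agent.Blocks.ExistsModular.exists_isPModular hf.out
  have hfac : (Nat.card G).factorization 13 = 1 := by
    have h1 : 13 ∣ Nat.card G := by rw [D.card]; norm_num
    have h2 := (hf.out.dvd_iff_one_le_factorization Nat.card_pos.ne').1 h1
    have h3 : ¬ 2 ≤ (Nat.card G).factorization 13 := fun h3 => by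
      have h4 := (hf.out.pow_dvd_iff_le_factorization Nat.card_pos.ne').2 h3
      rw [D.card] at h4
      revert h4
      norm_num
    omega
  let P : Sylow 13 G := Sylow.ofCard (zpowers z) (by rw [Nat.card_zpowers, D.oz, hfac, pow_one])
  have hP : Nat.card P = 13 := by
    change Nat.card (zpowers z) = 13
    rw [Nat.card_zpowers, D.oz]
  obtain ⟨g, hg⟩ := isConj_iff.1 D.zz
  have he : (centralizer ((P : Subgroup G) : Set G)).relIndex (normalizer ((P : Subgroup G) : Set G)) = 12 := by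
    have h1 := H219.RelIdx.relIndex_eq (H := ⊤) D.oz (mem_top g) (l := 2) hg orderOf_two_13
    rw [top_inf_eq, top_inf_eq] at h1
    exact h1
  refine ⟨M, hM, fun χ hχ => ?_⟩
  have h1 := (S0960.result 13 M hM (by norm_num) P hP 12 he).2 χ hχ
  simp only [Int.ModEq] at h1
  omega

/-- the column of the element of order 13 -/
theorem Conf.r13 (C : Conf x y z ψ ψ' β γ e O) {s : ℤ} (hs : re x e = 2 * s) (hs2 : s = 1 ∨ s = -1) :
    RuSearch.r13 (re x ψ) (re x β * charDegree (β : G → ℂ)) (re x γ * charDegree (γ : G → ℂ))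
      (s * charDegree (e : G → ℂ)) = true := by
  classical
  have hf : Fact (Nat.Prime 13) := ⟨by norm_num⟩
  have hz := C.D.oz
  have h1 := C.colZ (pow16_ne hz (by norm_num))
  have h2 := C.sq z
  have h3 : (Nat.card (centralizer ({z} : Set G)) : ℤ) ≤ 52 := by exact_mod_cast C.D.cz
  have dψ := C.D.fx.modEq hz
  have dβ := (C.fx_of (Or.inl rfl)).modEq hz
  have dγ := (C.fx_of (Or.inr rfl)).modEq hz
  have de := C.fx_e.modEq hz
  have rβ := C.re_sq β ((C.mem β).2 (by simp))
  have rγ := C.re_sq γ ((C.mem γ).2 (by simp))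
  have qβ := sq_nonneg (vl β z)
  have qγ := sq_nonneg (vl γ z)
  have qe := sq_nonneg (vl e z)
  have qψ := sq_nonneg (vl ψ z)
  have hψ0 : vl ψ z = 3 := by
    rw [C.D.dψ] at dψ
    have h5 : vl ψ z ^ 2 ≤ 51 := by linarith only [h2, h3, _root_.sq_nonneg (vl e z : ℤ), _root_.sq_nonneg (vl γ z : ℤ), _root_.sq_nonneg (vl β z : ℤ)]
    have h6 : -8 < vl ψ z := by nlinarith only [h2, h3]
    have h7 : vl ψ z < 8 := by nlinarith only [h2, h3]
    push_cast at dψ
    omega
  rw [hψ0] at h1 h2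
  -- the members of the principal block
  obtain ⟨M, hM, hB⟩ := C.D.block
  have hMp : M.IsPrime := hM.2.1.isPrime
  have hfin : Finite (IrrCharacter G) := finite_irr
  have := Fintype.ofFinite (IrrCharacter G)
  have hx : ¬ 13 ∣ orderOf x := by
    intro h
    have h4 := h.trans (orderOf_dvd_of_pow_eq_one C.D.elt.pow)
    revert h4
    norm_num
  have h4 := C.D.elt.block_col hM (B := principalBlock M G) ⟨one, rfl⟩ (y := z) hx (by rw [hz])
  rw [finsum_mem_eq_finite_toFinset_sum _ (Set.toFinite _)] at h4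
  have h5 : ∑ χ : IrrCharacter G, (if χ ∈ principalBlock M G then (re x χ : ℂ) * (χ : G → ℂ) z else 0) = 0 := by
    refine Eq.trans ?_ h4
    rw [← Finset.sum_filter]
    refine Finset.sum_congr ?_ fun _ _ => rfl
    ext χ
    simp only [_root_.Finset.mem_filter, _root_.Finset.mem_univ, _root_.true_and, _root_.Set.toFinite_toFinset, _root_.Set.mem_toFinset]
  rw [C.sum5 _ (fun χ hχ => by rw [hχ, Int.cast_zero, zero_mul, ite_self])] at h5
  have m1 : (one : IrrCharacter G) ∈ principalBlock M G := Cfsg.Agent.Blocks.PrincipalSection.one_mem_principalBlock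
  have mψ : ψ ∉ principalBlock M G := by
    intro h
    have h6 := hB ψ h
    rw [C.D.dψ] at h6
    omega
  rw [if_pos m1, if_neg mψ, re_one, show ((one : IrrCharacter G) : G → ℂ) z = 1 from rfl,
    (C.fx_of (Or.inl rfl) : Fx β).val z, (C.fx_of (Or.inr rfl) : Fx γ).val z, C.fx_e.val z] at h5
  have h6 : 1 + (if β ∈ principalBlock M G then re x β * vl β z else 0) +
      (if γ ∈ principalBlock M G then re x γ * vl γ z else 0) +
      (if e ∈ principalBlock M G then re x e * vl e z else 0) = 0 := by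
    by_cases c1 : β ∈ principalBlock M G <;> by_cases c2 : γ ∈ principalBlock M G <;>
      by_cases c3 : e ∈ principalBlock M G <;>
      simp only [c1, c2, c3, if_true, if_false] at h5 ⊢ <;>
      (have h7 : ∀ t : ℤ, (t : ℂ) = 0 → t = 0 := fun t ht => by exact_mod_cast ht
       apply h7
       rw [← h5]
       push_cast
       ring)
  have vB : ∀ χ : IrrCharacter G, χ ∈ principalBlock M G → (13 : ℤ) ∣ vl χ z - charDegree (χ : G → ℂ) →
      vl χ z ^ 2 ≤ 42 → vl χ z = 1 ∨ vl χ z = -1 := by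
    intro χ hχ hd hq
    have h7 := hB χ hχ
    have h8 : -7 < vl χ z := by nlinarith only [hq]
    have h9 : vl χ z < 7 := by nlinarith only [hq]
    (clear * - hd h7 h8 h9; omega)
  have sg : ∀ {t v : ℤ}, (t = 1 ∨ t = -1) → (v = 1 ∨ v = -1) → t * v = 1 ∨ t * v = -1 := by
    rintro t v (rfl | rfl) (rfl | rfl) <;> norm_num
  refine r13_of (b := re x β * vl β z) (c := re x γ * vl γ z) (e := s * vl e z) ?_ ?_ ?_ ?_ ?_
    (sub13_of (decide (β ∈ principalBlock M G)) (decide (γ ∈ principalBlock M G)) (decide (e ∈ principalBlock M G))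
      ?_ ?_ ?_ ?_)
  · rw [← mul_sub]
    exact dβ.mul_left _
  · rw [← mul_sub]
    exact dγ.mul_left _
  · rw [← mul_sub]
    exact de.mul_left _
  · rw [hs] at h1
    linarith only [h1]
  · rw [sgn_sq rβ, sgn_sq rγ, sgn_sq hs2]
    linarith only [h2, h3]
  · intro h
    exact sg rβ (vB β (of_decide_eq_true h) dβ (by linarith only [h2, h3, qγ, qe]))
  · intro h
    exact sg rγ (vB γ (of_decide_eq_true h) dγ (by linarith only [h2, h3, qβ, qe]))
  · intro h
    exact sg hs2 (vB e (of_decide_eq_true h) de (by linarith only [h2, h3, qβ, qγ]))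
  · simp only [decide_eq_true_eq]
    rw [hs] at h6
    by_cases c1 : β ∈ principalBlock M G <;> by_cases c2 : γ ∈ principalBlock M G <;>
      by_cases c3 : e ∈ principalBlock M G <;>
      simp only [c1, c2, c3, if_true, if_false] at h6 ⊢ <;> linarith only [h6]

theorem mem_LS {n : ℕ} (h : n ∣ 145926144000) (h2 : ¬ 2 ∣ n) {t : ℤ} (ht : t = 1 ∨ t = -1) : t * n ∈ LS := by
  have h3 : n ∣ 8906625 := by
    have h4 : n ∣ 2 ^ 14 * 8906625 := by simpa using h
    refine Nat.Coprime.dvd_of_dvd_mul_left ?_ h4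
    exact Nat.Coprime.pow_right 14 ((Nat.Prime.coprime_iff_not_dvd Nat.prime_two).2 h2).symm
  have h5 := mem_L h3
  unfold LS
  rw [List.mem_append]
  rcases ht with rfl | rfl
  · left
    rw [one_mul]
    exact List.mem_map.2 ⟨n, h5, rfl⟩
  · right
    rw [neg_one_mul]
    exact List.mem_map.2 ⟨n, h5, rfl⟩

theorem dvd4_natAbs {t : ℤ} {n : ℕ} (ht : t = 1 ∨ t = -1) : (t * (n : ℤ)).natAbs = n := by
  rcases ht with rfl | rfl
  · rw [one_mul, Int.natAbs_natCast]
  · rw [neg_one_mul, Int.natAbs_neg, Int.natAbs_natCast]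

/-- there are not exactly four characters of odd degree -/
theorem Data.rowA (D : Data x y z ψ ψ') : RowA G := by
  by_contra hA
  obtain ⟨β, γ, e, O, C⟩ := exists_conf D hA
  obtain ⟨s, hs, hs2⟩ := C.exists_sgn
  have hdeg := C.deg
  have h29 := C.r29 hs hs2
  have h13 := C.r13 hs hs2
  have rψ := C.re_sq ψ ((C.mem ψ).2 (by simp))
  have rβ := C.re_sq β ((C.mem β).2 (by simp))
  have rγ := C.re_sq γ ((C.mem γ).2 (by simp))
  have mβ := mem_LS (C.dvd β) C.odd_β rβ
  have mγ := mem_LS (C.dvd γ) C.odd_γ rγ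
  have nβ := dvd4_natAbs (n := charDegree (β : G → ℂ)) rβ
  have nγ := dvd4_natAbs (n := charDegree (γ : G → ℂ)) rγ
  have oβ := C.odd_β
  have oγ := C.odd_γ
  have ee := C.even_e
  have nd := C.nd
  have de := C.dvd e
  have one_of : ∀ χ : IrrCharacter G, charDegree (χ : G → ℂ) = 1 → one = χ := fun χ hχ =>
    Subtype.ext (funext fun g => (D.lin χ hχ g).symm)
  have gβ : 1 < charDegree (β : G → ℂ) := by
    have h0 : charDegree (β : G → ℂ) ≠ 0 := fun h => oβ (by rw [h]; exact dvd_zero 2)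
    have h1 : charDegree (β : G → ℂ) ≠ 1 := fun h => C.h1β (one_of β h)
    (clear * - oβ h1; omega)
  have gγ : 1 < charDegree (γ : G → ℂ) := by
    have h0 : charDegree (γ : G → ℂ) ≠ 0 := fun h => oγ (by rw [h]; exact dvd_zero 2)
    have h1 : charDegree (γ : G → ℂ) ≠ 1 := fun h => C.h1γ (one_of γ h)
    omega
  have ge : 0 < charDegree (e : G → ℂ) := Nat.pos_of_dvd_of_pos de (by norm_num)
  have ne := dvd4_natAbs (n := charDegree (e : G → ℂ)) hs2
  rw [hs] at hdeg
  generalize hB : re x β * (charDegree (β : G → ℂ) : ℤ) = B at *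
  generalize hC : re x γ * (charDegree (γ : G → ℂ) : ℤ) = Cc at *
  generalize hE : s * (charDegree (e : G → ℂ) : ℤ) = E at *
  have hdeg' : 1 + re x ψ * 783 + B + Cc + 2 * E = 0 := by
    rw [← hE]
    linarith only [hdeg]
  rcases rψ with rψ | rψ
  · have hE2 : E = -((784 + B + Cc) / 2) := by
      rw [rψ] at hdeg'
      (clear * - hdeg'; omega)
    have hEv : (2 : ℤ) ∣ E := by
      rw [← Int.natAbs_dvd_natAbs, ne]
      exact ee
    have hcand : cand B Cc = true := by
      unfold cand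
      simp only [Bool.and_eq_true, decide_eq_true_eq]
      rw [← hE2]
      refine ⟨?_, ?_, ?_, ?_, ?_, ?_, h29, ?_⟩
      · rw [rψ] at hdeg'
        (clear * - hdeg' hEv; omega)
      · rw [nβ, nγ]
        (clear * - oβ oγ nd; solve | lia | omega)
      · rw [nβ]
        exact gβ
      · rw [nγ]
        exact gγ
      · rw [rψ] at hdeg'
        intro h
        have : E = 0 := by (clear * - hE2 h; omega)
        rw [this] at ne
        simp at ne
        omega
      · have h1 : ((784 + B + Cc) / 2).natAbs = charDegree (e : G → ℂ) := by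
          rw [← ne, hE2, Int.natAbs_neg]
        rw [h1]
        exact Nat.mod_eq_zero_of_dvd de
      · rw [rψ] at h13
        exact h13
    have h1 := (List.all_eq_true.1 ((List.all_eq_true.1 pos) B mβ)) Cc mγ
    rw [hcand] at h1
    exact absurd h1 (by decide)
  · obtain ⟨h1, h2⟩ := C.neg rψ
    have hs1 : s = 1 := by omega
    rw [hs1, h1] at hE
    have hE3 : E = 3276 := by
      rw [← hE]
      norm_num
    have hC2 : Cc = -5770 - B := by
      rw [rψ, hE3] at hdeg'
      omega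
    rw [hE3] at h29 h13
    rw [rψ] at h13
    rw [hC2] at h29 h13 mγ
    have hcand : cand' B = true := by
      unfold cand'
      simp only [Bool.and_eq_true, decide_eq_true_eq]
      refine ⟨by rw [nβ]; exact gβ, ?_, h29, h13⟩
      rw [List.contains_iff_mem]
      exact mγ
    have h1 := (List.all_eq_true.1 neg) B mβ
    rw [hcand] at h1
    exact absurd h1 (by decide)

end Cfsg.Agent.H536.K4.RuAbs
end

-- part: H536/K4/Ru
section
/-!
# Row (A) of S4947 for the Rudvalis group (helper536)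

`rowA : Spor.IsoRu S → RowA S`.
-/

set_option autoImplicit false
set_option linter.unusedSectionVars false
set_option maxRecDepth 100000
set_option exponentiation.threshold 5000

namespace Cfsg.Agent.H536.K4.Ru

open Cfsg Subgroup Cfsg.Agent.Characters.Core Cfsg.Agent.SporadicB
open Cfsg.Agent.RuD.Letters (ml)
open Cfsg.Agent.SporRec.TCUpperCert (wprod)
open Cfsg.Agent.H714.K4 (k0 RowA)
open Cfsg.Agent.H536.K4.RuX (X Y)
open Cfsg.Agent.H536.K4.RuAbs
open scoped commutatorElement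

universe u

/-! ### the degrees of the constituents of the permutation character -/

theorem cand : ∀ f < 4060, f * (4059 - f) ∣ (1 + 1755 + 2304) * 1755 * 2304 →
    f ∈ [0, 27, 144, 315, 783, 1755, 2304, 3276, 3744, 3915, 4032, 4059] := by
  intro f hf hd
  have h := List.all_eq_true.1 (by ((try (rewrite [Cfsg.Agent.LsF.instNBEq_pat, Cfsg.Agent.LsF.or_eq, Cfsg.Agent.LsF.not_eq, Cfsg.Agent.LsF.all_eq, Cfsg.Agent.LsF.contains_eq, Cfsg.Agent.LsF.range_eq])); decide +kernel) : ((List.range 4060).all fun f =>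
    !(Nat.beq (Nat.mod 16416691200 (Nat.mul f (Nat.sub 4059 f))) 0) ||
      [0, 27, 144, 315, 783, 1755, 2304, 3276, 3744, 3915, 4032, 4059].contains f) = true) f (List.mem_range.2 hf)
  have h1 : Nat.mod 16416691200 (Nat.mul f (Nat.sub 4059 f)) = 0 := Nat.mod_eq_zero_of_dvd hd
  rw [h1] at h
  exact List.contains_iff_mem.1 h

theorem not_sq {n a : ℕ} (h1 : a * a < n) (h2 : n < (a + 1) * (a + 1)) : ¬ IsSquare n := by
  rintro ⟨r, rfl⟩
  have h3 : a < r := by
    by_contra h
    push Not at h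
    exact absurd (Nat.mul_le_mul h h) (by omega)
  have h4 : r < a + 1 := by
    by_contra h
    push Not at h
    exact absurd (Nat.mul_le_mul h h) (by omega)
  omega

theorem degrees {f g D : ℕ} (h1 : f + g = 1755 + 2304) (h2 : f * g * D = (1 + 1755 + 2304) * 1755 * 2304)
    (h3 : f ≠ g → IsSquare D) : (f = 783 ∧ g = 3276) ∨ (f = 3276 ∧ g = 783) := by
  have hg : g = 4059 - f := by omega
  have hne : f ≠ g := by omega
  have hD := h3 hne
  subst hg
  have h4 := cand f (by omega) ⟨D, h2.symm⟩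
  have k1 : D = 150800 → False := fun h => not_sq (n := 150800) (a := 388) (by norm_num) (by norm_num) (h ▸ hD)
  have k2 : D = 29120 → False := fun h => not_sq (n := 29120) (a := 170) (by norm_num) (by norm_num) (h ▸ hD)
  have k3 : D = 13920 → False := fun h => not_sq (n := 13920) (a := 117) (by norm_num) (by norm_num) (h ▸ hD)
  have k4 : D = 4060 → False := fun h => not_sq (n := 4060) (a := 63) (by norm_num) (by norm_num) (h ▸ hD)
  simp only [List.mem_cons, List.not_mem_nil, or_false] at h4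
  rcases h4 with rfl | rfl | rfl | rfl | rfl | rfl | rfl | rfl | rfl | rfl | rfl | rfl
  · simp at h2
  · exact (k1 (by omega)).elim
  · exact (k2 (by omega)).elim
  · exact (k3 (by omega)).elim
  · exact Or.inl ⟨rfl, rfl⟩
  · exact (k4 (by omega)).elim
  · exact (k4 (by omega)).elim
  · exact Or.inr ⟨rfl, rfl⟩
  · exact (k3 (by omega)).elim
  · exact (k2 (by omega)).elim
  · exact (k1 (by omega)).elim
  · simp at h2

/-- the permutation character -/
theorem exists_perm : ∃ χ₁ χ₂ : IrrCharacter RuOrder.H, charDegree (χ₁ : RuOrder.H → ℂ) = 783 ∧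
    charDegree (χ₂ : RuOrder.H → ℂ) = 3276 ∧ ∀ g : RuOrder.H,
      (Nat.card (MulAction.fixedBy (Fin 4060) g) : ℂ) = 1 + (χ₁ : RuOrder.H → ℂ) g + (χ₂ : RuOrder.H → ℂ) g := by
  classical
  have hfin : Finite RuOrder.H := Cfsg.Agent.H690.Spor.Ru.instFiniteH
  obtain ⟨R, hR⟩ := Cfsg.Agent.H690.Spor.Ru.r3
  obtain ⟨χ₁, χ₂, f, g, D, hf, hg, hπ, h1, h2, h3⟩ := hR.frame
  have hdf : charDegree (χ₁ : RuOrder.H → ℂ) = f := Cfsg.Agent.Blocks.Basic.charDegree_of_eq hf
  have hdg : charDegree (χ₂ : RuOrder.H → ℂ) = g := Cfsg.Agent.Blocks.Basic.charDegree_of_eq hg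
  rcases degrees h1 h2 h3 with ⟨rfl, rfl⟩ | ⟨rfl, rfl⟩
  · exact ⟨χ₁, χ₂, hdf, hdg, hπ⟩
  · exact ⟨χ₂, χ₁, hdg, hdf, fun g => by rw [hπ g]; ring⟩

theorem fixedBy_pow {G Ω : Type*} [Group G] [MulAction G Ω] {g : G} {k : ℕ} (h : k.Coprime (orderOf g)) :
    MulAction.fixedBy Ω (g ^ k) = MulAction.fixedBy Ω g := by
  have h1 : ∀ (a : G) (n : ℕ), MulAction.fixedBy Ω a ⊆ MulAction.fixedBy Ω (a ^ n) := by
    intro a n p hp
    rw [MulAction.mem_fixedBy] at hp ⊢
    induction n with
    | zero => rw [pow_zero, one_smul]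
    | succ n ih => rw [pow_succ, mul_smul, hp, ih]
  refine Set.Subset.antisymm ?_ (h1 g k)
  obtain ⟨m, hm⟩ := exists_pow_eq_self_of_coprime h
  intro p hp
  have h2 := h1 (g ^ k) m hp
  rwa [hm] at h2

theorem lin {G : Type u} [Group G] [Finite G] (hc : commutator G = ⊤) (χ : IrrCharacter G)
    (h : charDegree (χ : G → ℂ) = 1) (g : G) : (χ : G → ℂ) g = 1 := by
  have h1 := Cfsg.Agent.H597.Taketa.commutator_le_ker_of_linear χ.2 h g (hc ▸ mem_top g)
  rw [h1, Cfsg.Agent.Blocks.Basic.irr_one_eq_charDegree χ.2, h, Nat.cast_one]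

theorem perfect : commutator RuOrder.H = ⊤ := by
  have hs : IsSimpleGroup RuOrder.H := RuSimple.isSimpleGroup_H
  rcases (inferInstance : (commutator RuOrder.H).Normal).eq_bot_or_eq_top with h | h
  · exfalso
    have h1 : ∀ a b : RuOrder.H, a * b = b * a := by
      intro a b
      have h2 : ⁅a, b⁆ ∈ commutator RuOrder.H := commutator_mem_commutator (mem_top a) (mem_top b)
      rw [h, mem_bot, commutatorElement_eq_one_iff_mul_comm] at h2
      exact h2
    have h2 : (centralizer ({X} : Set RuOrder.H)) = ⊤ := by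
      rw [eq_top_iff]
      intro g _
      rw [mem_centralizer_singleton_iff]
      exact h1 _ _
    have h3 := RuX.card_cent
    rw [h2, card_top, RuOrder.card_H] at h3
    omega
  · exact h

/-- the hypotheses for the model -/
theorem exists_data : ∃ ψ ψ' : IrrCharacter RuOrder.H, Data X (wprod ml H436.RuCent.wA : RuOrder.H) Y ψ ψ' := by
  have hfin : Finite RuOrder.H := H436.TwoRu.finite_H
  obtain ⟨ψ, ψ', h1, h2, h3⟩ := exists_perm
  refine ⟨ψ, ψ', ?_⟩
  refine
    { card := RuOrder.card_H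
      lin := lin perfect
      elt := ⟨RuX.X_pow, RuX.conj5, RuX.card_cent, RuX.not_conj_inv⟩
      oy := H436.RuCent.orderA
      cy := ?_
      oz := H436.RuCent.orderB
      cz := ?_
      zz := RuX.conj2
      dψ := h1
      dψ' := h2
      sum := ?_
      fix := ?_ }
  · exact Nat.le_of_dvd (by norm_num) (H436.TwoRu.cent29 _ H436.RuCent.orderA)
  · exact Nat.le_of_dvd (by norm_num) (H436.TwoRu.cent13 _ H436.RuCent.orderB)
  · intro k hk g
    have h4 := h3 g
    have h5 := h3 (g ^ k)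
    rw [fixedBy_pow (hk.coprime_dvd_right (_root_.orderOf_dvd_natCard g)), h4] at h5
    linear_combination -h5
  · have h4 := h3 X
    rw [RuX.card_fix] at h4
    push_cast at h4
    linear_combination -h4

theorem rowA_model : RowA RuOrder.H := by
  obtain ⟨ψ, ψ', h⟩ := exists_data
  have hfin : Finite RuOrder.H := H436.TwoRu.finite_H
  exact h.rowA

/-- [row] Ru -/
theorem rowA {S : Type u} [Group S] (h : Cfsg.Spor.IsoRu S) : RowA S := by
  obtain ⟨e⟩ := h
  have e' := (e.trans Cfsg.Agent.RuLat.Main.equiv).symm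
  rcases rowA_model with h1 | h1
  · exact Or.inl (Cfsg.Agent.H714.K4.syl_congr e' h1)
  · exact Or.inr (h1.trans_eq (Cfsg.Agent.H645.K4.k0_congr e'))

end Cfsg.Agent.H536.K4.Ru
end

private theorem dce_2150025a2b3b : _root_.True := by
  try have : _root_.True := by simp only [_root_.Cfsg.Agent.H536.K4.RuX.X.eq_1]
  try have : _root_.True := by simp only [_root_.Cfsg.Agent.H536.K4.RuX.chkN.eq_1]
  try have : _root_.True := by simp only [_root_.Cfsg.Agent.H536.K4.Gauss.pw.congr_simp]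
  try have : _root_.True := by simp only [_root_.Cfsg.Agent.H536.K4.RuX.chkP.eq_1]
  exact _root_.True.intro
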